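import Cfsg.Agent.H488.ThreeHalf
import Cfsg.Agent.H603.SporElim
import Cfsg.Agent.ClassicalGeometry.PSL2Basic
import Cfsg.Agent.H278.ThompsonSurj
import Cfsg.Agent.H836.Sylow
import Cfsg.Agent.SporadicA.M11Facts
import Cfsg.Agent.H392.HalfTrans
import Cfsg.Agent.OddHalf.MM.Main_m3
import Cfsg.Agent.ClassicalGeometry.AutPSpCount
import Cfsg.Agent.ClassicalGeometry.SympAutTwo
import Cfsg.Agent.ClassicalGeometry.SympAutCentral
import Cfsg.Agent.H410.ASLie
import Cfsg.Agent.FastGrp
import Cfsg.Agent.Prune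
set_option linter.all false

section
prune_inst 0x7ffefdf8afb83ddfffff7e7ffffddffe3b905fffffdff943ffeeebff1fffa3060be5fbaf0de090fe4ed7e09418b87853fb7eeeffe86bdc7ffffd5ff45ffbec5fb5e7bd0851d79c341fbc2fffe3f0778e7f3fffffffffffffffffffffffffffbeffffffbfffff

-- part: H488/ThreeRows
section
prune_inst 0x400000
set_option linter.all false
open scoped Cfsg.Agent.FastGrp

/-!
# `(3+1/2)`-transitive groups: rows of the list of 2-transitive groups settled by numbers
-/

set_option autoImplicit false
set_option linter.unusedSectionVars false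

namespace Cfsg.Agent.H488.ThreeHalf

open MulAction Cfsg.Agent.H392.MultTrans Cfsg.Agent.H384.TwoTrans

universe u v

variable {G : Type u} {Ω : Type v} [Group G] [MulAction G Ω] {T : Subgroup G}

/-- the conclusion: 4-transitive or sharply 3-transitive -/
def Concl (G : Type u) (Ω : Type v) [Group G] [MulAction G Ω] : Prop :=
  IsMultiplyPretransitive G Ω 4 ∨ ∀ s : Fin 3 ↪ Ω, stabilizer G s = ⊥

/-- all the orbits of the stabiliser of three points on the other points have length `r` -/
def Half (G : Type u) (Ω : Type v) [Group G] [MulAction G Ω] (r : ℕ) : Prop :=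
  ∀ (s : Fin 3 ↪ Ω) (b : Ω), b ∉ Set.range s → Nat.card (orbit (stabilizer G s) b) = r

theorem a7 (A : AS G Ω T) (h3 : IsMultiplyPretransitive G Ω 3) (hn : Nat.card Ω = 15)
    (hT : Nat.card T = 2520) : False := by
  obtain ⟨a, b, hab, l, h1, h2, h4, h5, h6⟩ := exists_len A h3
  rw [hn, hT] at h5
  rw [hn] at h2
  have h7 : Nat.card (TT T a b) = 12 := by omega
  rw [h7] at h4 h6
  have h8 : l ∣ Nat.gcd 13 12 := Nat.dvd_gcd h2 h4
  have h9 : l = 1 := Nat.dvd_one.1 (by simpa using h8)
  exact absurd (h6 h9) (by norm_num)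

theorem psl2_8 (A : AS G Ω T) (h3 : IsMultiplyPretransitive G Ω 3) (hn : Nat.card Ω = 28)
    (hT : Nat.card T = 504) : False := by
  obtain ⟨a, b, hab, l, h1, h2, h4, h5, h6⟩ := exists_len A h3
  rw [hn, hT] at h5
  omega

theorem co3 (A : AS G Ω T) (h3 : IsMultiplyPretransitive G Ω 3) (hn : Nat.card Ω = 276)
    (hT : Nat.card T = 495766656000) : False := by
  obtain ⟨a, b, hab, l, h1, h2, h4, h5, h6⟩ := exists_len A h3
  rw [hn, hT] at h5
  rw [hn] at h2
  have h7 : Nat.card (TT T a b) = 6531840 := by omega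
  rw [h7] at h4 h6
  have h8 : l ∣ Nat.gcd 274 6531840 := Nat.dvd_gcd h2 h4
  have h9 : l ≤ 2 := Nat.le_of_dvd (by norm_num) (by simpa using h8)
  have h10 : ∀ c : Ω, Nat.card (orbit (TT T a b) c) ≤ 2 := by
    intro c
    by_cases hc : c = a
    · rw [hc, TT_orbit_a.1]; norm_num
    by_cases hc' : c = b
    · rw [hc', TT_orbit_a.2]; norm_num
    · rw [h1 c ⟨hc, hc'⟩]; exact h9
  have h11 := card_pow_two A h10 Nat.prime_three (by rw [h7]; norm_num)
  exact absurd h11 (by norm_num)

section half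

variable [Finite G] [Finite Ω] [FaithfulSMul G Ω] {r : ℕ}

theorem exists_tri (h5 : 4 ≤ Nat.card Ω) : ∃ (s : Fin 3 ↪ Ω) (b : Ω), b ∉ Set.range s := by
  classical
  have : Fintype Ω := Fintype.ofFinite Ω
  obtain ⟨s⟩ : Nonempty (Fin 3 ↪ Ω) := by
    apply Function.Embedding.nonempty_of_card_le
    rw [Fintype.card_fin, ← Nat.card_eq_fintype_card]; omega
  refine ⟨s, ?_⟩
  by_contra hne
  push Not at hne
  have h1 := card_compl_range s
  have h2 : ((Set.range s)ᶜ : Set Ω) = ∅ := by
    ext x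
    simp only [Set.mem_compl_iff, Set.mem_empty_iff_false, iff_false, not_not]
    exact hne x
  rw [h2, Nat.card_coe_set_eq, Set.ncard_empty] at h1
  omega

/-- `r = 1` or `r = n - 3` -/
theorem concl_of (h5 : 4 ≤ Nat.card Ω) (h3 : IsMultiplyPretransitive G Ω 3) (hr : Half G Ω r)
    (h : r = 1 ∨ r = Nat.card Ω - 3) : Concl G Ω := by
  rcases h with rfl | h
  · right
    intro s
    exact stab_eq_bot_of_card_orbit_one s (hr s)
  · left
    obtain ⟨s, b, hb⟩ := exists_tri h5
    exact succ_of_orbit_full h3 s hb ((hr s b hb).trans h)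

theorem r_dvd (h5 : 4 ≤ Nat.card Ω) (hr : Half G Ω r) : r ∣ Nat.card Ω - 3 := by
  obtain ⟨s, b, hb⟩ := exists_tri h5
  exact orbit_dvd s (hr s)

/-- the numbers -/
theorem exists_stab (h5 : 4 ≤ Nat.card Ω) (h3 : IsMultiplyPretransitive G Ω 3) (hr : Half G Ω r) :
    ∃ (s : Fin 3 ↪ Ω) (b : Ω), b ∉ Set.range s ∧ r ∣ Nat.card Ω - 3 ∧ r ∣ Nat.card (stabilizer G s) ∧
      Nat.card G = Nat.card Ω * (Nat.card Ω - 1) * (Nat.card Ω - 2) * Nat.card (stabilizer G s) := by
  obtain ⟨s, b, hb⟩ := exists_tri h5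
  refine ⟨s, b, hb, r_dvd h5 hr, ?_, ?_⟩
  · rw [← hr s b hb]
    exact card_orbit_dvd_card _ _
  · rw [card_eq_descFactorial h3 s]
    congr 1
    rw [Nat.descFactorial_succ, Nat.descFactorial_succ, Nat.descFactorial_one]
    ring

theorem m22 (hn : Nat.card Ω = 22) (h3 : IsMultiplyPretransitive G Ω 3) (hr : Half G Ω r) : Concl G Ω := by
  have h1 := r_dvd (by omega) hr
  rw [hn] at h1
  apply concl_of (by omega) h3 hr
  rw [hn]
  exact (Nat.dvd_prime (by norm_num)).1 h1

/-- `G` contains the alternating group -/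
theorem concl_of_alt [Fintype Ω] [DecidableEq Ω] (h5 : 5 ≤ Nat.card Ω)
    (hle : alternatingGroup Ω ≤ (toPermHom G Ω).range) : Concl G Ω := by
  have hnt : Nontrivial Ω := Finite.one_lt_card_iff_nontrivial.1 (by omega)
  have hrange : (toPermHom G Ω).range = ⊤ ∨ (toPermHom G Ω).range = alternatingGroup Ω := by
    have h1 : (toPermHom G Ω).range.index ∣ 2 := by
      have h2 : (alternatingGroup Ω).index = 2 := alternatingGroup.index_eq_two
      rw [← h2]
      exact Subgroup.index_dvd_of_le hle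
    rcases (Nat.dvd_prime Nat.prime_two).1 h1 with h2 | h2
    · left; exact Subgroup.index_eq_one.1 h2
    · right; exact Equiv.Perm.eq_alternatingGroup_of_index_eq_two h2
  rcases hrange with h | h
  · left; exact of_range_top h
  · by_cases h6 : 6 ≤ Nat.card Ω
    · left
      exact of_range_alt (by omega) h
    · right
      intro s
      exact stab_bot_of_alt h (by omega) s

/-- `T` has index two in the symmetric group -/
theorem alt (h5 : 5 ≤ Nat.card Ω) (hT : Nat.card T * 2 = (Nat.card Ω).factorial) : Concl G Ω := by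
  classical
  have : Fintype Ω := Fintype.ofFinite Ω
  have hnt : Nontrivial Ω := Finite.one_lt_card_iff_nontrivial.1 (by omega)
  set R : Subgroup (Equiv.Perm Ω) := T.map (toPermHom G Ω) with hR
  have hcard : Nat.card R = Nat.card T :=
    Nat.card_congr (Subgroup.equivMapOfInjective T _ MulAction.toPerm_injective).symm.toEquiv
  have hidx : R.index = 2 := by
    have h1 := R.index_mul_card
    rw [hcard, Nat.card_perm, ← hT, mul_comm] at h1
    exact Nat.eq_of_mul_eq_mul_left Nat.card_pos h1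
  have hle : alternatingGroup Ω ≤ (toPermHom G Ω).range := by
    rw [← Equiv.Perm.eq_alternatingGroup_of_index_eq_two hidx, hR]
    exact Subgroup.map_le_range _ _
  exact concl_of_alt h5 hle

/-! ### The Frattini argument -/

/-- the order of `G` divides `|N_G(P)| |T|` -/
theorem card_dvd_frattini [T.Normal] {q : ℕ} [Fact q.Prime] (P : Sylow q T) :
    Nat.card G ∣ Nat.card ↥(Subgroup.normalizer ((P : Subgroup T).map T.subtype : Set G)) * Nat.card T := by
  have h1 := Sylow.normalizer_sup_eq_top P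
  set N := Subgroup.normalizer ((P : Subgroup T).map T.subtype : Set G)
  have h2 := Cfsg.Agent.H278.ThompsonSurj.card_sup_mul (K := T) (H := N)
    (fun g _ => by rw [Subgroup.normalizer_eq_top]; trivial)
  rw [sup_comm, h1, Subgroup.card_top] at h2
  exact ⟨_, by rw [mul_comm (Nat.card N), ← h2]⟩

/-- a fixed point free element of prime order commuting with an element of prime order -/
theorem comm_fix {q p : ℕ} (hq : q.Prime) (hp : p.Prime) {x y : G} (hxy : x * y = y * x)
    (hx : ∀ c : Ω, x • c ≠ c) (hxq : orderOf x = q) (hyp : orderOf y = p) :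
    q ∣ ({c : Ω | y • c = c} : Set Ω).ncard ∧ Nat.card Ω ≡ ({c : Ω | y • c = c} : Set Ω).ncard [MOD p] ∧
      ({c : Ω | y • c = c} : Set Ω).ncard ≠ Nat.card Ω := by
  refine ⟨?_, ?_, ?_⟩
  · refine dvd_ncard_of_orbits (Subgroup.zpowers x) _ ?_ ?_
    · intro g hg c hc
      obtain ⟨k, rfl⟩ := Subgroup.mem_zpowers_iff.1 hg
      show y • (x ^ k) • c = (x ^ k) • c
      have h1 : Commute y (x ^ k) := (Commute.zpow_right (show Commute y x from hxy.symm) k)
      rw [smul_smul, h1.eq, mul_smul]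
      congr 1
    · intro c _
      have h1 := card_orbit_dvd_card (Subgroup.zpowers x) c
      rw [Nat.card_zpowers, hxq] at h1
      rcases (Nat.dvd_prime hq).1 h1 with h2 | h2
      · exfalso
        rw [Nat.card_eq_one_iff_unique] at h2
        have h3 : (⟨x • c, ⟨⟨x, Subgroup.mem_zpowers x⟩, rfl⟩⟩ : orbit (Subgroup.zpowers x) c) =
            ⟨c, mem_orbit_self c⟩ := h2.1.elim _ _
        exact hx c (congrArg Subtype.val h3)
      · exact h2
  · have := Fact.mk hp
    have h1 : IsPGroup p (Subgroup.zpowers y) := IsPGroup.of_card (n := 1) (by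
      rw [Nat.card_zpowers, hyp, pow_one])
    have h2 := h1.card_modEq_card_fixedPoints Ω
    have h3 : fixedPoints (Subgroup.zpowers y) Ω = {c : Ω | y • c = c} := by
      ext c
      constructor
      · intro h
        exact h ⟨y, Subgroup.mem_zpowers y⟩
      · rintro h ⟨g, hg⟩
        obtain ⟨k, rfl⟩ := Subgroup.mem_zpowers_iff.1 hg
        have h4 : y ∈ stabilizer G c := h
        exact (Subgroup.zpow_mem _ h4 k : y ^ k ∈ stabilizer G c)
    rw [h3, Nat.card_coe_set_eq] at h2
    exact h2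
  · intro h
    have h1 : ({c : Ω | y • c = c} : Set Ω) = Set.univ := by
      apply Set.eq_of_subset_of_ncard_le (Set.subset_univ _)
      rw [Set.ncard_univ, h]
    have h2 : y = 1 := by
      apply FaithfulSMul.eq_of_smul_eq_smul (α := Ω)
      intro c
      rw [one_smul]
      have : c ∈ ({c : Ω | y • c = c} : Set Ω) := by rw [h1]; trivial
      exact this
    rw [h2, orderOf_one] at hyp
    exact hp.one_lt.ne hyp

/-- the common argument for `HS` of degree 176 and `PSL₂(11)` of degree 11 -/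
theorem exists_commuting (A : AS G Ω T) {q p : ℕ} (hq : q.Prime) (hp : p.Prime)
    (h1 : q ∣ Nat.card T) (h2 : ¬ q ^ 2 ∣ Nat.card T) (h3 : ¬ q ∣ Nat.card T / Nat.card Ω)
    (h4 : ¬ p ∣ q - 1) (h5 : ∀ m, Nat.card G ∣ m * Nat.card T → p ∣ m) :
    ∃ f : ℕ, f < Nat.card Ω ∧ q ∣ f ∧ Nat.card Ω ≡ f [MOD p] := by
  have := A.normal
  have := Fact.mk hq
  have := Fact.mk hp
  obtain ⟨P⟩ : Nonempty (Sylow q T) := inferInstance
  have hP : Nat.card P = q := by
    rw [P.card_eq_multiplicity]
    have h6 : (Nat.card T).factorization q = 1 := by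
      apply le_antisymm
      · by_contra hcon
        push Not at hcon
        exact h2 ((hq.pow_dvd_iff_le_factorization Nat.card_pos.ne').2 hcon)
      · exact (hq.dvd_iff_one_le_factorization Nat.card_pos.ne').1 h1
    rw [h6, pow_one]
  set R : Subgroup G := (P : Subgroup T).map T.subtype with hR
  have hRc : Nat.card R = q := by
    rw [← hP]
    exact Nat.card_congr (Subgroup.equivMapOfInjective _ _ T.subtype_injective).symm.toEquiv
  have h6 := h5 _ (card_dvd_frattini P)
  obtain ⟨k, hk, hk'⟩ := Cfsg.Agent.H836.Sylow.normalizer_centralizer hq hRc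
  rw [← hR, hk'] at h6
  have h7 : p ∣ Nat.card ↥(Subgroup.centralizer (R : Set G)) := by
    rcases hp.dvd_mul.1 h6 with h | h
    · exact h
    · exact absurd (h.trans hk) h4
  obtain ⟨y, hy⟩ := exists_prime_orderOf_dvd_card' p h7
  obtain ⟨x, hx⟩ := exists_prime_orderOf_dvd_card' (G := R) q (by rw [hRc])
  have hxT : (x : G) ∈ T := by
    obtain ⟨z, -, hz⟩ := x.2
    rw [← hz]
    exact z.2
  have hx' : orderOf (x : G) = q := by rw [← hx]; exact Subgroup.orderOf_coe x
  have hy' : orderOf (y : G) = p := by rw [← hy]; exact Subgroup.orderOf_coe y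
  have hfix : ∀ c : Ω, (x : G) • c ≠ c := by
    intro c hc
    apply h3
    have h8 := A.card_mul c
    have h9 : Nat.card T / Nat.card Ω = Nat.card (stabilizer T c) := by
      rw [← h8]
      exact Nat.mul_div_cancel_left _ (by have := A.five_le; omega)
    rw [h9]
    have h10 : (⟨x, hxT⟩ : T) ∈ stabilizer T c := hc
    have h11 : orderOf (⟨(⟨x, hxT⟩ : T), h10⟩ : stabilizer T c) = q := by
      rw [← hx', ← Subgroup.orderOf_coe, ← Subgroup.orderOf_coe]
    rw [← h11]
    exact orderOf_dvd_natCard _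
  obtain ⟨a1, a2, a3⟩ := comm_fix hq hp (x := (x : G)) (y := (y : G))
    ((Subgroup.mem_centralizer_iff.1 y.2) x x.2) hfix hx' hy'
  refine ⟨_, lt_of_le_of_ne ?_ a3, a1, a2⟩
  rw [← Set.ncard_univ]
  exact Set.ncard_le_ncard (Set.subset_univ _) (Set.toFinite _)

theorem hs (A : AS G Ω T) (h3 : IsMultiplyPretransitive G Ω 3) (hn : Nat.card Ω = 176)
    (hT : Nat.card T = 44352000) : False := by
  obtain ⟨s, b, hb⟩ := exists_tri (Ω := Ω) (by omega)
  have h1 := card_eq_descFactorial h3 s
  have h0 : Nat.descFactorial 176 3 = 176 * 175 * 174 := by simp [Nat.descFactorial]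
  rw [hn, h0] at h1
  obtain ⟨f, f1, f2, f3⟩ := exists_commuting A (q := 11) (p := 29) (by norm_num) (by norm_num)
    (by rw [hT]; norm_num) (by rw [hT]; norm_num) (by rw [hT, hn]; norm_num) (by norm_num) (by
      intro m hm
      rw [h1, hT] at hm
      have h2 : 29 ∣ m * 44352000 := (Dvd.intro _ (by ring : 29 * (176 * 175 * 6 * _) = 176 * 175 * 174 * _)).trans hm
      rcases (Nat.Prime.dvd_mul (by norm_num : Nat.Prime 29)).1 h2 with h4 | h4
      · exact h4
      · exact absurd h4 (by norm_num))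
  rw [hn] at f1 f3
  rw [Nat.ModEq] at f3
  omega

theorem psl2_11 (A : AS G Ω T) (h3 : IsMultiplyPretransitive G Ω 3) (hn : Nat.card Ω = 11)
    (hT : Nat.card T = 660) : False := by
  obtain ⟨s, b, hb⟩ := exists_tri (Ω := Ω) (by omega)
  have h1 := card_eq_descFactorial h3 s
  have h0 : Nat.descFactorial 11 3 = 11 * 10 * 9 := by simp [Nat.descFactorial]
  rw [hn, h0] at h1
  obtain ⟨f, f1, f2, f3⟩ := exists_commuting A (q := 11) (p := 3) (by norm_num) (by norm_num)
    (by rw [hT]; norm_num) (by rw [hT]; norm_num) (by rw [hT, hn]; norm_num) (by norm_num) (by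
      intro m hm
      rw [h1, hT] at hm
      have h2 : 9 ∣ m * 660 := (Dvd.intro _ (by ring : 9 * (11 * 10 * _) = 11 * 10 * 9 * _)).trans hm
      have h4 : 3 ∣ m * 220 := by
        have h5 : 3 * 3 ∣ 3 * (m * 220) := by
          have : 3 * (m * 220) = m * 660 := by ring
          rw [this]; exact h2
        exact Nat.dvd_of_mul_dvd_mul_left (by norm_num) h5
      rcases (Nat.Prime.dvd_mul (by norm_num : Nat.Prime 3)).1 h4 with h4 | h4
      · exact h4
      · exact absurd h4 (by norm_num))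
  rw [hn] at f1 f3
  rw [Nat.ModEq] at f3
  omega

end half

end Cfsg.Agent.H488.ThreeHalf
end

-- part: H488/ThreeEleven
section
prune_inst 0x102035047c0000000018000020001c46ea000000002b800011400e00048f1f4180010f21f6f01b020122a264603a804811100079421000002a008200413804a1842b72e2823cbc04350001c0f883180c00000000000000000000000000041000000400000
set_option linter.all false
open scoped Cfsg.Agent.FastGrp

/-!
# `(3+1/2)`-transitive groups: `M₁₁` of degree 11 and 12
-/

set_option autoImplicit false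
set_option linter.unusedSectionVars false

namespace Cfsg.Agent.H488.ThreeHalf

open MulAction Cfsg.Agent.H392.MultTrans Cfsg.Agent.H384.TwoTrans

universe u v

variable {G : Type u} {Ω : Type v} [Group G] [MulAction G Ω]

theorem eq_top_of_inner {T : Subgroup G} (A : AS G Ω T) (inn : ∀ α : MulAut T, ∃ k, α = MulAut.conj k) : T = ⊤ := by
  have := A.normal
  rw [eq_top_iff]
  intro g _
  obtain ⟨k, hk⟩ := inn (MulAut.conjNormal g)
  have h1 : (k : G)⁻¹ * g ∈ Subgroup.centralizer (T : Set G) := by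
    rw [Subgroup.mem_centralizer_iff]
    intro t ht
    have h2 := congrArg (fun (α : MulAut T) => ((α ⟨t, ht⟩ : T) : G)) hk
    have h3 : g * t * g⁻¹ = k * t * (k : G)⁻¹ := by simpa using h2
    have h4 : g * t = k * t * (k : G)⁻¹ * g := by rw [← h3]; group
    have h5 : (k : G)⁻¹ * g * t = t * ((k : G)⁻¹ * g) := by
      rw [mul_assoc, h4]; group
    exact h5.symm
  rw [A.cent, Subgroup.mem_bot] at h1
  have h2 : g = k := (inv_mul_eq_one.1 h1).symm
  rw [h2]
  exact k.2

section count

variable [Finite G] [Finite Ω]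

/-- Counting the pairs (involution, fixed triple). -/
theorem count_inv (h3 : IsMultiplyPretransitive G Ω 3) (s : Fin 3 ↪ Ω) {f : ℕ}
    (hf : ∀ t : G, orderOf t = 2 → ({c : Ω | t • c = c} : Set Ω).ncard = f) :
    Nat.card {t : G // orderOf t = 2} * f.descFactorial 3 =
      (Nat.card Ω).descFactorial 3 * Nat.card {t : stabilizer G s // orderOf t = 2} := by
  classical
  have : Fintype Ω := Fintype.ofFinite Ω
  have : Fintype G := Fintype.ofFinite G
  let P := {p : {t : G // orderOf t = 2} × (Fin 3 ↪ Ω) // ∀ i, (p.1 : G) • p.2 i = p.2 i}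
  have h1 : Nat.card P = Nat.card {t : G // orderOf t = 2} * f.descFactorial 3 := by
    have e : P ≃ Σ t : {t : G // orderOf t = 2}, {s : Fin 3 ↪ Ω // ∀ i, (t : G) • s i = s i} :=
      { toFun := fun p => ⟨p.1.1, ⟨p.1.2, p.2⟩⟩
        invFun := fun q => ⟨(q.1, q.2.1), q.2.2⟩
        left_inv := fun _ => rfl
        right_inv := fun _ => rfl }
    rw [Nat.card_congr e, Nat.card_sigma]
    have h2 : ∀ t : {t : G // orderOf t = 2}, Nat.card {s : Fin 3 ↪ Ω // ∀ i, (t : G) • s i = s i} =
        f.descFactorial 3 := by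
      intro t
      have e2 : {s : Fin 3 ↪ Ω // ∀ i, (t : G) • s i = s i} ≃ (Fin 3 ↪ {c : Ω // (t : G) • c = c}) :=
        { toFun := fun s => ⟨fun i => ⟨s.1 i, s.2 i⟩, fun i j h => s.1.injective (congrArg Subtype.val h)⟩
          invFun := fun s => ⟨s.trans (Function.Embedding.subtype _), fun i => (s i).2⟩
          left_inv := fun _ => rfl
          right_inv := fun _ => rfl }
      rw [Nat.card_congr e2, Nat.card_eq_fintype_card, Fintype.card_embedding_eq, Fintype.card_fin,
        ← Nat.card_eq_fintype_card]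
      have h3 := hf t t.2
      rw [← Nat.card_coe_set_eq] at h3
      have h4 : Nat.card {c : Ω // (t : G) • c = c} = f := h3
      rw [h4]
    rw [Finset.sum_congr rfl (fun t _ => h2 t), Finset.sum_const, Finset.card_univ, smul_eq_mul,
      Nat.card_eq_fintype_card]
  have h2 : Nat.card P = (Nat.card Ω).descFactorial 3 * Nat.card {t : stabilizer G s // orderOf t = 2} := by
    have e : P ≃ Σ s : (Fin 3 ↪ Ω), {t : {t : G // orderOf t = 2} // ∀ i, (t : G) • s i = s i} :=
      { toFun := fun p => ⟨p.1.2, ⟨p.1.1, p.2⟩⟩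
        invFun := fun q => ⟨(q.2.1, q.1), q.2.2⟩
        left_inv := fun _ => rfl
        right_inv := fun _ => rfl }
    rw [Nat.card_congr e, Nat.card_sigma]
    have h4 : ∀ s' : Fin 3 ↪ Ω, Nat.card {t : {t : G // orderOf t = 2} // ∀ i, (t : G) • s' i = s' i} =
        Nat.card {t : stabilizer G s // orderOf t = 2} := by
      intro s'
      obtain ⟨g, hg⟩ := exists_map h3 s s'
      have ho : ∀ x y : G, orderOf (y * x * y⁻¹) = orderOf x := by
        intro x y
        have := orderOf_injective (MulAut.conj y).toMonoidHom (MulAut.conj y).injective x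
        simpa using this
      have hs1 : ∀ x ∈ stabilizer G s, ∀ i, (g * x * g⁻¹) • s' i = s' i := by
        intro x hx i
        rw [← hg, mul_smul, mul_smul, inv_smul_smul, (mem_stab_emb s _).1 hx]
      have hs2 : ∀ x : G, (∀ i, x • s' i = s' i) → g⁻¹ * x * g ∈ stabilizer G s := by
        intro x hx
        rw [mem_stab_emb]
        intro i
        rw [mul_smul, mul_smul, hg, hx, ← hg, inv_smul_smul]
      have ho2 : ∀ x : G, orderOf (g⁻¹ * x * g) = orderOf x := by
        intro x
        have := ho x g⁻¹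
        rwa [inv_inv] at this
      exact (Nat.card_congr (α := {t : stabilizer G s // orderOf t = 2})
        (β := {t : {t : G // orderOf t = 2} // ∀ i, (t : G) • s' i = s' i})
        { toFun := fun t => ⟨⟨g * t.1.1 * g⁻¹, by rw [ho, Subgroup.orderOf_coe]; exact t.2⟩, hs1 _ t.1.2⟩
          invFun := fun t => ⟨⟨g⁻¹ * t.1.1 * g, hs2 _ t.2⟩, by
            rw [← Subgroup.orderOf_coe]
            exact (ho2 _).trans t.1.2⟩
          left_inv := fun t => by
            apply Subtype.ext
            apply Subtype.ext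
            show g⁻¹ * (g * (t.1.1 : G) * g⁻¹) * g = t.1.1
            group
          right_inv := fun t => by
            apply Subtype.ext
            apply Subtype.ext
            show g * (g⁻¹ * (t.1.1 : G) * g) * g⁻¹ = t.1.1
            group }).symm
    rw [Finset.sum_congr rfl (fun s' _ => h4 s'), Finset.sum_const, Finset.card_univ, smul_eq_mul,
      Fintype.card_embedding_eq, Fintype.card_fin, ← Nat.card_eq_fintype_card]
  rw [← h1, h2]

end count

section eleven

variable [Finite G] [Finite Ω]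

theorem mod_fix {p : ℕ} (hp : p.Prime) {y : G} (hyp : orderOf y = p) :
    Nat.card Ω ≡ ({c : Ω | y • c = c} : Set Ω).ncard [MOD p] := by
  have := Fact.mk hp
  have h1 : IsPGroup p (Subgroup.zpowers y) := IsPGroup.of_card (n := 1) (by
    rw [Nat.card_zpowers, hyp, pow_one])
  have h2 := h1.card_modEq_card_fixedPoints Ω
  have h3 : fixedPoints (Subgroup.zpowers y) Ω = {c : Ω | y • c = c} := by
    ext c
    constructor
    · intro h
      exact h ⟨y, Subgroup.mem_zpowers y⟩
    · rintro h ⟨g, hg⟩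
      obtain ⟨k, rfl⟩ := Subgroup.mem_zpowers_iff.1 hg
      have h4 : y ∈ stabilizer G c := h
      exact (Subgroup.zpow_mem _ h4 k : y ^ k ∈ stabilizer G c)
  rw [h3, Nat.card_coe_set_eq] at h2
  exact h2

theorem ncard_fix_conj (g t : G) : ({c : Ω | (g * t * g⁻¹) • c = c} : Set Ω).ncard =
    ({c : Ω | t • c = c} : Set Ω).ncard := by
  have h1 : ({c : Ω | (g * t * g⁻¹) • c = c} : Set Ω) = (fun c => g • c) '' {c : Ω | t • c = c} := by
    ext c
    constructor
    · intro h
      refine ⟨g⁻¹ • c, ?_, smul_inv_smul _ _⟩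
      show t • g⁻¹ • c = g⁻¹ • c
      rw [eq_inv_smul_iff, smul_smul, smul_smul]
      exact h
    · rintro ⟨d, hd, rfl⟩
      have hd' : t • d = d := hd
      show (g * t * g⁻¹) • g • d = g • d
      rw [mul_smul, mul_smul, inv_smul_smul, hd']
  rw [h1, Set.ncard_image_of_injective _ (MulAction.injective g)]

/-- the number of involutions of `M₁₁` -/
theorem card_inv (hG : Cfsg.IsM11 G) : Nat.card {t : G // orderOf t = 2} = 165 := by
  have := Fact.mk Nat.prime_two
  obtain ⟨u, hu⟩ := exists_prime_orderOf_dvd_card' (G := G) 2 (by rw [hG.2]; norm_num)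
  have h1 := Cfsg.Agent.SporadicA.M11Facts.card_centralizer_two hG hu
  have h2 := Cfsg.Agent.Characters.CentralCharacter.index_centralizer_eq_card u
  have h3 := (Subgroup.centralizer ({u} : Set G)).index_mul_card
  rw [h1, hG.2, h2] at h3
  have h4 : Nat.card {x : G // IsConj u x} = Nat.card {t : G // orderOf t = 2} := by
    apply Nat.card_congr
    refine Equiv.subtypeEquivRight fun x => ⟨fun h => ?_, fun h => ?_⟩
    · obtain ⟨c, rfl⟩ := isConj_iff.1 h
      have := orderOf_injective (MulAut.conj c).toMonoidHom (MulAut.conj c).injective u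
      have h5 : orderOf (c * u * c⁻¹) = orderOf u := by simpa using this
      rw [h5, hu]
    · exact Cfsg.Agent.SporadicA.M11Facts.isConj_involutions hG hu h
  rw [← h4]
  omega

theorem ncard_fix_inv (hG : Cfsg.IsM11 G) {t u : G} (ht : orderOf t = 2) (hu : orderOf u = 2) :
    ({c : Ω | t • c = c} : Set Ω).ncard = ({c : Ω | u • c = c} : Set Ω).ncard := by
  obtain ⟨g, rfl⟩ := isConj_iff.1 (Cfsg.Agent.SporadicA.M11Facts.isConj_involutions hG hu ht)
  exact ncard_fix_conj g u

/-- the data common to the degrees 11 and 12 -/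
theorem exists_inv (hG : Cfsg.IsM11 G) (h3 : IsMultiplyPretransitive G Ω 3) (s : Fin 3 ↪ Ω)
    (h2 : 2 ∣ Nat.card (stabilizer G s)) :
    ∃ f : ℕ, 3 ≤ f ∧ Nat.card Ω ≡ f [MOD 2] ∧ (∀ t : G, orderOf t = 2 → ({c : Ω | t • c = c} : Set Ω).ncard = f) ∧
      165 * f.descFactorial 3 = (Nat.card Ω).descFactorial 3 * Nat.card {t : stabilizer G s // orderOf t = 2} ∧
      ∃ t ∈ stabilizer G s, orderOf t = 2 := by
  have := Fact.mk Nat.prime_two
  obtain ⟨t, ht⟩ := exists_prime_orderOf_dvd_card' (G := stabilizer G s) 2 h2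
  have ht' : orderOf (t : G) = 2 := by rw [← ht]; exact Subgroup.orderOf_coe t
  have hf : ∀ u : G, orderOf u = 2 → ({c : Ω | u • c = c} : Set Ω).ncard = ({c : Ω | (t : G) • c = c} : Set Ω).ncard :=
    fun u hu => ncard_fix_inv hG hu ht'
  refine ⟨_, ?_, mod_fix Nat.prime_two ht', hf, ?_, t, t.2, ht'⟩
  · have h4 : Set.range s ⊆ {c : Ω | (t : G) • c = c} := by
      rintro _ ⟨i, rfl⟩
      exact (mem_stab_emb s _).1 t.2 i
    have h5 := Set.ncard_le_ncard h4 (Set.toFinite _)
    have h6 : (Set.range s).ncard = 3 := by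
      rw [← Set.image_univ, Set.ncard_image_of_injective _ s.injective, Set.ncard_univ]
      simp
    omega
  · rw [← card_inv hG]
    exact count_inv h3 s hf

theorem card_inv_le (N : Subgroup G) : Nat.card {t : N // orderOf t = 2} + 1 ≤ Nat.card N := by
  classical
  have : Fintype G := Fintype.ofFinite G
  have h1 : ({t : N | orderOf t = 2} : Set N).ncard + 1 ≤ Nat.card N := by
    have h2 : ({t : N | orderOf t = 2} : Set N) ⊆ {1}ᶜ := by
      intro t ht h
      rw [Set.mem_singleton_iff] at h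
      subst h
      have : orderOf (1 : N) = 2 := ht
      rw [orderOf_one] at this
      omega
    have h3 := Set.ncard_le_ncard h2 (Set.toFinite _)
    rw [Set.ncard_compl, Set.ncard_singleton] at h3
    have h4 : 0 < Nat.card N := Nat.card_pos
    omega
  rw [← Nat.card_coe_set_eq] at h1
  exact h1

/-- **`M₁₁` of degree 11.** -/
theorem m11_11 [FaithfulSMul G Ω] (hG : Cfsg.IsM11 G) (h3 : IsMultiplyPretransitive G Ω 3) (hn : Nat.card Ω = 11)
    {r : ℕ} (hr : Half G Ω r) : Concl G Ω := by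
  obtain ⟨s, b, hb⟩ := exists_tri (Ω := Ω) (by omega)
  have h1 := card_eq_descFactorial h3 s
  have h0 : Nat.descFactorial 11 3 = 990 := by simp [Nat.descFactorial]
  rw [hn, h0, hG.2] at h1
  have h8 : Nat.card (stabilizer G s) = 8 := by omega
  obtain ⟨f, f3, fm, hf, hcount, -⟩ := exists_inv hG h3 s (by rw [h8]; norm_num)
  have h9 := card_inv_le (stabilizer G s)
  rw [h8] at h9
  rw [hn, h0] at hcount
  rw [hn, Nat.ModEq] at fm
  have hf3 : f = 3 := by
    by_contra hne
    have h5 : 5 ≤ f := by omega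
    have h6 : Nat.descFactorial 5 3 ≤ f.descFactorial 3 := Nat.descFactorial_le 3 h5
    have h7 : Nat.descFactorial 5 3 = 60 := by simp [Nat.descFactorial]
    rw [h7] at h6
    omega
  subst hf3
  -- the stabiliser of a fourth point is trivial
  have hreg : stabilizer (stabilizer G s) b = ⊥ := by
    by_contra hne
    obtain ⟨⟨g, hg⟩, hg1⟩ := Subgroup.ne_bot_iff_exists_ne_one.1 hne
    have h10 : Nat.card (stabilizer (stabilizer G s) b) ∣ 8 := by
      rw [← h8]; exact Subgroup.card_subgroup_dvd_card _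
    have h11 : 2 ∣ Nat.card (stabilizer (stabilizer G s) b) := by
      rcases (Nat.dvd_prime_pow Nat.prime_two).1 (show _ ∣ 2 ^ 3 from h10) with ⟨k, -, hk⟩
      rcases Nat.eq_zero_or_pos k with h12 | h12
      · rw [h12, pow_zero, Subgroup.card_eq_one] at hk
        exact absurd hk hne
      · rw [hk]
        exact dvd_pow_self 2 (by omega)
    have := Fact.mk Nat.prime_two
    obtain ⟨t, ht⟩ := exists_prime_orderOf_dvd_card' 2 h11
    have ht' : orderOf ((t : stabilizer G s) : G) = 2 := by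
      rw [← ht, Subgroup.orderOf_coe, Subgroup.orderOf_coe]
    have h12 := hf _ ht'
    have h13 : insert b (Set.range s) ⊆ {c : Ω | ((t : stabilizer G s) : G) • c = c} := by
      rintro x (rfl | ⟨i, rfl⟩)
      · exact t.2
      · exact (mem_stab_emb s _).1 (t : stabilizer G s).2 i
    have h14 := Set.ncard_le_ncard h13 (Set.toFinite _)
    rw [Set.ncard_insert_of_notMem hb, h12] at h14
    have h6 : (Set.range s).ncard = 3 := by
      rw [← Set.image_univ, Set.ncard_image_of_injective _ s.injective, Set.ncard_univ]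
      simp
    omega
  apply concl_of (by omega) h3 hr
  right
  rw [hn, ← hr s b hb, Nat.card_coe_set_eq, ← MulAction.index_stabilizer, hreg, Subgroup.index_bot, h8]

/-- **`M₁₁` of degree 12.** -/
theorem m11_12 [FaithfulSMul G Ω] (hG : Cfsg.IsM11 G) (h3 : IsMultiplyPretransitive G Ω 3) (hn : Nat.card Ω = 12)
    {r : ℕ} (hr : Half G Ω r) : Concl G Ω := by
  obtain ⟨s, b, hb, hrn, hrd, -⟩ := exists_stab (Ω := Ω) (by omega) h3 hr
  have h1 := card_eq_descFactorial h3 s
  have h0 : Nat.descFactorial 12 3 = 1320 := by simp [Nat.descFactorial]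
  rw [hn, h0, hG.2] at h1
  have h8 : Nat.card (stabilizer G s) = 6 := by omega
  obtain ⟨f, f3, fm, hf, hcount, t, hts, ht⟩ := exists_inv hG h3 s (by rw [h8]; norm_num)
  have h9 := card_inv_le (stabilizer G s)
  rw [h8] at h9
  rw [hn, h0] at hcount
  rw [hn, Nat.ModEq] at fm
  have hf4 : f = 4 := by
    by_contra hne
    have h5 : 6 ≤ f := by omega
    have h6 : Nat.descFactorial 6 3 ≤ f.descFactorial 3 := Nat.descFactorial_le 3 h5
    have h7 : Nat.descFactorial 6 3 = 120 := by simp [Nat.descFactorial]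
    rw [h7] at h6
    omega
  rw [hn] at hrn
  rw [h8] at hrd
  apply concl_of (by omega) h3 hr
  left
  by_contra hr1
  have hr3 : r = 3 := by
    have h10 : r ∣ Nat.gcd 9 6 := Nat.dvd_gcd hrn hrd
    have h11 : r ∣ 3 := h10
    rcases (Nat.dvd_prime Nat.prime_three).1 h11 with h | h
    · exact absurd h hr1
    · exact h
  subst hr3
  have h2t : ∀ c : Ω, c ∉ Set.range s → ∃ d ∈ orbit (stabilizer G s) c, t • d = d := by
    intro c hc
    have := Fact.mk Nat.prime_two
    obtain ⟨d, hd, hd'⟩ := Cfsg.Agent.H392.HalfTrans.exists_fixed_in_orbit (p := 2) (stabilizer G s)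
      (Subgroup.zpowers t) (by rw [Subgroup.zpowers_le]; exact hts)
      (IsPGroup.of_card (n := 1) (by rw [Nat.card_zpowers, ht, pow_one])) c (by rw [hr s c hc]; norm_num)
    exact ⟨d, hd, hd' t (Subgroup.mem_zpowers t)⟩
  obtain ⟨d, hd, hd'⟩ := h2t b hb
  -- a point outside of the orbit of `b`
  obtain ⟨c, hc, hcb⟩ : ∃ c, c ∉ Set.range s ∧ c ∉ orbit (stabilizer G s) b := by
    by_contra hcon
    push Not at hcon
    have h10 : ((Set.range s)ᶜ : Set Ω) ⊆ orbit (stabilizer G s) b := fun x hx => hcon x hx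
    have h11 := Set.ncard_le_ncard h10 (Set.toFinite _)
    rw [← Nat.card_coe_set_eq, ← Nat.card_coe_set_eq, card_compl_range, hn, hr s b hb] at h11
    omega
  obtain ⟨e, he, he'⟩ := h2t c hc
  have hdb := orbit_subset_compl s hb hd
  have hec := orbit_subset_compl s hc he
  have hde : d ≠ e := by
    rintro rfl
    apply hcb
    rw [← orbit_eq_iff.2 hd, orbit_eq_iff.2 he]
    exact mem_orbit_self c
  have h13 : insert e (insert d (Set.range s)) ⊆ {c : Ω | t • c = c} := by
    rintro x (rfl | rfl | ⟨i, rfl⟩)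
    · exact he'
    · exact hd'
    · exact (mem_stab_emb s _).1 hts i
  have h14 := Set.ncard_le_ncard h13 (Set.toFinite _)
  rw [Set.ncard_insert_of_notMem, Set.ncard_insert_of_notMem hdb, hf t ht] at h14
  · have h6 : (Set.range s).ncard = 3 := by
      rw [← Set.image_univ, Set.ncard_image_of_injective _ s.injective, Set.ncard_univ]
      simp
    omega
  · rintro (h | h)
    · exact hde h.symm
    · exact hec h

end eleven

end Cfsg.Agent.H488.ThreeHalf
end

-- part: H488/ThreeSp
section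
prune_inst 0x200400002200000000000002000004580000000000000000000800010002400000010000001000000022000000000000000050400000000a000000000000208028100000100c04040001801080000000000000000000000000000000000000000000000
set_option linter.all false
open scoped Cfsg.Agent.FastGrp

/-!
# `(3+1/2)`-transitive groups: the row `Sp_{2m}(2)`

Count the transvections that map `a` to `b`.
-/

set_option autoImplicit false
set_option linter.unusedSectionVars false

namespace Cfsg.Agent.H488.ThreeHalf

open MulAction Cfsg.Agent.H392.MultTrans Cfsg.Agent.H384.TwoTrans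

universe u v

section count

variable {X Ω : Type*} [Group X] [MulAction X Ω]

/-- the number of elements of a class mapping `a` to `b` -/
theorem class_count [Finite X] [Finite Ω] (h2 : ∀ a b c d : Ω, a ≠ b → c ≠ d → ∃ g : X, g • a = c ∧ g • b = d) (C : Set X)
    (hC : ∀ t ∈ C, ∀ g : X, g * t * g⁻¹ ∈ C) {φ : ℕ} (hφ : ∀ t ∈ C, {x : Ω | t • x = x}.ncard = φ)
    {a b : Ω} (hab : a ≠ b) :
    C.ncard * (Nat.card Ω - φ) = Nat.card Ω * (Nat.card Ω - 1) * {t : X | t ∈ C ∧ t • a = b}.ncard := by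
  classical
  have : Fintype X := Fintype.ofFinite X
  have : Fintype Ω := Fintype.ofFinite Ω
  set k := {t : X | t ∈ C ∧ t • a = b}.ncard with hk
  have hk' : ∀ c d : Ω, c ≠ d → {t : X | t ∈ C ∧ t • c = d}.ncard = k := by
    intro c d hcd
    obtain ⟨g, hg1, hg2⟩ := h2 a b c d hab hcd
    have h1 : {t : X | t ∈ C ∧ t • c = d} = (fun t => g * t * g⁻¹) '' {t : X | t ∈ C ∧ t • a = b} := by
      ext t
      constructor
      · rintro ⟨h3, h4⟩
        refine ⟨g⁻¹ * t * g, ⟨by simpa using hC t h3 g⁻¹, ?_⟩, by group⟩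
        rw [mul_smul, mul_smul, hg1, h4, ← hg2, inv_smul_smul]
      · rintro ⟨s, ⟨h3, h4⟩, rfl⟩
        refine ⟨hC s h3 g, ?_⟩
        show (g * s * g⁻¹) • c = d
        rw [mul_smul, mul_smul, ← hg1, inv_smul_smul, h4, hg2]
    rw [h1, Set.ncard_image_of_injective]
    intro x y hxy
    simpa only [_root_.mul_left_inj, _root_.mul_right_inj] using hxy
  -- double count
  have e1 : ∀ t ∈ C.toFinset, ∑ x : Ω, (if t • x ≠ x then 1 else 0) = Nat.card Ω - φ := by
    intro t ht
    rw [Finset.sum_boole, ← hφ t (Set.mem_toFinset.1 ht)]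
    have h1 : ({x : Ω | t • x = x} : Set Ω).ncard = (Finset.univ.filter fun x : Ω => t • x = x).card := by
      rw [Set.ncard_eq_toFinset_card', Set.toFinset_ofPred]
    rw [h1, Nat.card_eq_fintype_card]
    have h3 := Finset.card_filter_add_card_filter_not (s := (Finset.univ : Finset Ω)) (fun x : Ω => t • x = x)
    rw [Finset.card_univ] at h3
    change _ + (Finset.univ.filter fun x : Ω => t • x ≠ x).card = _ at h3
    simp only [Nat.cast_id]
    omega
  have e2 : ∀ x : Ω, ∑ t ∈ C.toFinset, (if t • x ≠ x then 1 else 0) = (Nat.card Ω - 1) * k := by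
    intro x
    have h1 : ∀ t : X, (if t • x ≠ x then 1 else 0) = ∑ y ∈ Finset.univ.erase x, (if t • x = y then 1 else 0) := by
      intro t
      by_cases h : t • x = x
      · rw [if_neg (by simpa using h), Finset.sum_eq_zero]
        intro y hy
        rw [if_neg]
        rw [h]
        exact (Finset.ne_of_mem_erase hy).symm
      · rw [if_pos h, Finset.sum_ite_eq, if_pos (Finset.mem_erase.2 ⟨h, Finset.mem_univ _⟩)]
    rw [Finset.sum_congr rfl fun t _ => h1 t, Finset.sum_comm]
    have h4 : ∀ y ∈ Finset.univ.erase x, ∑ t ∈ C.toFinset, (if t • x = y then 1 else 0) = k := by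
      intro y hy
      rw [← hk' x y (Finset.ne_of_mem_erase hy).symm, Finset.sum_boole, Set.ncard_eq_toFinset_card']
      simp only [Nat.cast_id]
      congr 1
      ext t
      simp
    rw [Finset.sum_congr rfl h4, Finset.sum_const, Finset.card_erase_of_mem (Finset.mem_univ _),
      Finset.card_univ, ← Nat.card_eq_fintype_card, smul_eq_mul]
  have e3 : ∑ t ∈ C.toFinset, ∑ x : Ω, (if t • x ≠ x then 1 else 0) =
      ∑ x : Ω, ∑ t ∈ C.toFinset, (if t • x ≠ x then 1 else 0) := Finset.sum_comm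
  rw [Finset.sum_congr rfl e1, Finset.sum_congr rfl fun x _ => e2 x, Finset.sum_const, Finset.sum_const,
    smul_eq_mul, smul_eq_mul, Finset.card_univ, ← Nat.card_eq_fintype_card] at e3
  rw [Set.ncard_eq_toFinset_card', e3]
  ring

theorem dvd_sum_of_orbits {G : Type*} [Group G] [MulAction G Ω] [Fintype Ω] (N : Subgroup G) (f : Ω → ℕ)
    (hf : ∀ g ∈ N, ∀ x, f (g • x) = f x) {l : ℕ} (h : ∀ x, f x ≠ 0 → Nat.card (orbit N x) = l) : l ∣ ∑ x, f x := by
  classical
  have h1 := Finset.sum_comp (s := (Finset.univ : Finset Ω)) (fun v : ℕ => v) f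
  rw [h1]
  apply Finset.dvd_sum
  intro v hv
  rcases Nat.eq_zero_or_pos v with h2 | h2
  · rw [h2, smul_zero]; exact dvd_zero _
  · rw [smul_eq_mul]
    apply Dvd.dvd.mul_right
    have h3 := dvd_ncard_of_orbits N {x : Ω | f x = v} (fun g hg x hx => (hf g hg x).trans hx)
      (fun x hx => h x (by rw [hx]; omega))
    rw [Set.ncard_eq_toFinset_card', Set.toFinset_ofPred] at h3
    exact h3

end count

variable {G : Type u} {Ω : Type v} [Group G] [MulAction G Ω] {T : Subgroup G}

theorem dvd_mul_fix (A : AS G Ω T) (C : Set T) (hC : ∀ t ∈ C, ∀ g : T, g * t * g⁻¹ ∈ C) {φ : ℕ}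
    (hφ : ∀ t ∈ C, {x : Ω | t • x = x}.ncard = φ) {a b : Ω} (hab : a ≠ b) {l : ℕ}
    (hl : ∀ c, c ≠ a ∧ c ≠ b → Nat.card (orbit (TT T a b) c) = l) :
    l ∣ {t : T | t ∈ C ∧ t • a = b}.ncard * φ := by
  classical
  have := A.finG
  have := A.finΩ
  have : Fintype T := Fintype.ofFinite T
  have : Fintype Ω := Fintype.ofFinite Ω
  let D : Finset T := Finset.univ.filter fun t => t ∈ C ∧ t • a = b
  have hD : ∀ t, t ∈ D ↔ t ∈ C ∧ t • a = b := fun t => by simp only [D, _root_.Finset.mem_filter, _root_.Finset.mem_univ, _root_.true_and]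
  let f : Ω → ℕ := fun x => (D.filter fun t => t • x = x).card
  have h1 : ∑ x, f x = {t : T | t ∈ C ∧ t • a = b}.ncard * φ := by
    have h2 : ∀ x, f x = ∑ t ∈ D, (if t • x = x then 1 else 0) := by
      intro x
      rw [Finset.sum_boole]
      rfl
    rw [Finset.sum_congr rfl fun x _ => h2 x, Finset.sum_comm]
    have h3 : ∀ t ∈ D, ∑ x : Ω, (if t • x = x then 1 else 0) = φ := by
      intro t ht
      rw [← hφ t ((hD t).1 ht).1, Finset.sum_boole, Set.ncard_eq_toFinset_card', Set.toFinset_ofPred]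
      rfl
    rw [Finset.sum_congr rfl h3, Finset.sum_const, smul_eq_mul, Set.ncard_eq_toFinset_card', Set.toFinset_ofPred]
  rw [← h1]
  apply dvd_sum_of_orbits (TT T a b) f
  · intro g hg x
    rw [mem_TT] at hg
    obtain ⟨hgT, hga, hgb⟩ := hg
    set γ : T := ⟨g, hgT⟩ with hγ
    have hγa : γ • a = a := hga
    have hγb : γ • b = b := hgb
    refine (Finset.card_bij (fun t _ => γ * t * γ⁻¹) ?_ ?_ ?_).symm
    · intro t ht
      rw [Finset.mem_filter, hD] at ht
      rw [Finset.mem_filter, hD]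
      refine ⟨⟨hC t ht.1.1 γ, ?_⟩, ?_⟩
      · rw [mul_smul, mul_smul, inv_smul_eq_iff.2 hγa.symm, ht.1.2, hγb]
      · show (γ * t * γ⁻¹) • (γ • x) = γ • x
        rw [mul_smul, mul_smul, inv_smul_smul, ht.2]
    · intro t _ s _ hts
      simpa only [_root_.mul_left_inj, _root_.mul_right_inj] using hts
    · intro t ht
      rw [Finset.mem_filter, hD] at ht
      refine ⟨γ⁻¹ * t * γ, ?_, by group⟩
      rw [Finset.mem_filter, hD]
      refine ⟨⟨by simpa only [_root_.inv_inv] using hC t ht.1.1 γ⁻¹, ?_⟩, ?_⟩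
      · rw [mul_smul, mul_smul, hγa, ht.1.2, inv_smul_eq_iff, hγb]
      · have h4 : t • (γ • x) = γ • x := ht.2
        rw [mul_smul, mul_smul, h4, inv_smul_smul]
  · intro x hx
    apply hl
    have h2 : 0 < f x := Nat.pos_of_ne_zero hx
    obtain ⟨t, ht⟩ := Finset.card_pos.1 h2
    rw [Finset.mem_filter, hD] at ht
    constructor
    · rintro rfl
      exact hab (ht.2.symm.trans ht.1.2)
    · rintro rfl
      apply hab
      exact smul_left_cancel t (ht.1.2.trans ht.2.symm)

/-! ### The class of transvections -/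

section Transv

open Cfsg.Agent.ClassicalGeometry Matrix

variable {F : Type*} [Field F] [Fintype F] {m : ℕ}

/-- the class of the transvections -/
def Cl (m : ℕ) (F : Type*) [Field F] : Set (Cfsg.PSp m F) :=
  {x | ∃ v : Fin m ⊕ Fin m → F, v ≠ 0 ∧ x = (QuotientGroup.mk (SympBasic.transv v 1) : Cfsg.PSp m F)}

theorem two_eq_zero (hF : Fintype.card F = 2) : (2 : F) = 0 := by
  have h := Nat.cast_card_eq_zero F
  rw [hF] at h
  exact_mod_cast h

theorem eq_zero_or_one (hF : Fintype.card F = 2) (a : F) (ha : a ≠ 0) : a = 1 := by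
  classical
  by_contra h
  have h1 : ({0, 1, a} : Finset F).card ≤ 2 := by
    rw [← hF]; exact Finset.card_le_univ _
  have h2 : ({0, 1, a} : Finset F).card = 3 := by
    rw [Finset.card_eq_three]
    exact ⟨0, 1, a, zero_ne_one, ha.symm, Ne.symm h, rfl⟩
  omega

theorem ncard_Cl (hF : Fintype.card F = 2) (hm : 2 ≤ m) : (Cl m F).ncard = 2 ^ (2 * m) - 1 := by
  classical
  have h1 : Cl m F = (fun v : Fin m ⊕ Fin m → F => (QuotientGroup.mk (SympBasic.transv v 1) : Cfsg.PSp m F)) ''
      ({0}ᶜ : Set (Fin m ⊕ Fin m → F)) := by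
    ext x
    constructor
    · rintro ⟨v, hv, rfl⟩
      exact ⟨v, hv, rfl⟩
    · rintro ⟨v, hv, rfl⟩
      exact ⟨v, hv, rfl⟩
  rw [h1, Set.InjOn.ncard_image]
  · rw [Set.ncard_compl, Set.ncard_singleton, Nat.card_eq_fintype_card, Fintype.card_fun, hF, Fintype.card_sum,
      Fintype.card_fin, two_mul]
  · intro v hv w hw hvw
    obtain ⟨a, h2, h3⟩ := SympAutCentral.mk_transv_eq hm (v := w) (w := v) hv one_ne_zero hvw
    have h4 : a ≠ 0 := by
      rintro rfl
      simp at h3
    rw [eq_zero_or_one hF a h4, one_smul] at h2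
    exact h2

theorem Cl_conj (t : Cfsg.PSp m F) (ht : t ∈ Cl m F) (g : Cfsg.PSp m F) : g * t * g⁻¹ ∈ Cl m F := by
  obtain ⟨v, hv, rfl⟩ := ht
  obtain ⟨v', hv', h⟩ := AutPSpCount.exists_conj_mk_transv g hv 1
  exact ⟨v', hv', h⟩

theorem Cl_trans (hF : Fintype.card F = 2) (t s : Cfsg.PSp m F) (ht : t ∈ Cl m F) (hs : s ∈ Cl m F) :
    ∃ g, g * t * g⁻¹ = s := by
  obtain ⟨v, hv, rfl⟩ := ht
  obtain ⟨w, hw, rfl⟩ := hs
  obtain ⟨g, hg⟩ := SympAutTwo.transv_conj (two_eq_zero hF) hv hw (c := 1) (d := 1) one_ne_zero one_ne_zero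
  exact ⟨QuotientGroup.mk g, by rw [← hg]; rfl⟩

end Transv

/-! ### Numbers -/

/-- the values of `n` with `y = z + 1 = 2 ^ (m - 1)` -/
def Deg (n z : ℕ) : Prop := n = (z + 1) * (2 * z + 3) ∨ n = (z + 1) * (2 * z + 1)

theorem num_fix {n z φ k : ℕ} (hn : Deg n z) (hz : 3 ≤ z) (hφ : φ < n)
    (h : (2 * z + 1) * (2 * z + 3) * (n - φ) = n * (n - 1) * k) :
    k * φ = (z + 1) ^ 2 ∨ k * φ = 2 * (z + 1) := by
  obtain ⟨d, rfl⟩ : ∃ d, n = φ + d := ⟨n - φ, by omega⟩
  have hd : 0 < d := by omega
  rw [Nat.add_sub_cancel_left] at h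
  rcases hn with hn | hn
  · have h1 : φ + d - 1 = (2 * z + 1) * (z + 2) := by
      have : (z + 1) * (2 * z + 3) = (2 * z + 1) * (z + 2) + 1 := by ring
      omega
    rw [h1, hn] at h
    have h2 : d = (z + 1) * (z + 2) * k := by
      have h3 : 0 < (2 * z + 1) * (2 * z + 3) := by positivity
      apply Nat.eq_of_mul_eq_mul_left h3
      rw [h]; ring
    have h4 : k = 1 := by
      rcases Nat.lt_or_ge k 2 with h5 | h5
      · rcases Nat.eq_zero_or_pos k with h6 | h6
        · rw [h6, mul_zero] at h2; omega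
        · omega
      · exfalso
        have h6 : (z + 1) * (z + 2) * 2 ≤ d := by rw [h2]; exact Nat.mul_le_mul_left _ h5
        have h7 : (z + 1) * (z + 2) * 2 = (z + 1) * (2 * z + 3) + (z + 1) := by ring
        omega
    subst h4
    left
    have h5 : (z + 1) * (2 * z + 3) = (z + 1) ^ 2 + (z + 1) * (z + 2) * 1 := by ring
    omega
  · have h1 : φ + d - 1 = (2 * z + 3) * z := by
      have : (z + 1) * (2 * z + 1) = (2 * z + 3) * z + 1 := by ring
      omega
    rw [h1, hn] at h
    have h2 : d = (z + 1) * z * k := by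
      have h3 : 0 < (2 * z + 1) * (2 * z + 3) := by positivity
      apply Nat.eq_of_mul_eq_mul_left h3
      rw [h]; ring
    have h4 : k = 1 ∨ k = 2 := by
      rcases Nat.lt_or_ge k 3 with h5 | h5
      · rcases Nat.eq_zero_or_pos k with h6 | h6
        · rw [h6, mul_zero] at h2; omega
        · omega
      · exfalso
        have h6 : (z + 1) * z * 3 ≤ d := by rw [h2]; exact Nat.mul_le_mul_left _ h5
        have h7 : (z + 1) * z * 3 = (z + 1) * (2 * z) + (z + 1) * z := by ring
        have h8 : (z + 1) * (2 * z + 1) = (z + 1) * (2 * z) + (z + 1) := by ring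
        nlinarith only [hz, hn, h6]
    rcases h4 with rfl | rfl
    · left
      have h5 : (z + 1) * (2 * z + 1) = (z + 1) ^ 2 + (z + 1) * z * 1 := by ring
      omega
    · right
      have h5 : (z + 1) * (2 * z + 1) = (z + 1) + (z + 1) * z * 2 := by ring
      omega

theorem num_len {n z m l x : ℕ} (hn : Deg n z) (hm : 3 ≤ m) (hz : z + 1 = 2 ^ (m - 1)) (hl : l ∣ n - 2) (hlx : l ∣ x)
    (hx : x = (z + 1) ^ 2 ∨ x = 2 * (z + 1)) : l ≤ 2 := by
  have h1 : l ∣ 2 ^ (2 * (m - 1) + 1) := by
    refine hlx.trans ?_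
    have h2 : 2 ^ (2 * (m - 1) + 1) = (z + 1) ^ 2 * 2 := by
      rw [hz, ← pow_mul, ← pow_succ, mul_comm 2 (m - 1)]
    rw [h2]
    rcases hx with rfl | rfl
    · exact Dvd.intro _ rfl
    · exact ⟨z + 1, by ring⟩
  obtain ⟨j, -, rfl⟩ := (Nat.dvd_prime_pow Nat.prime_two).1 h1
  have h3 : 4 ∣ z + 1 := by
    rw [hz]
    exact (pow_dvd_pow 2 (by omega : 2 ≤ m - 1) : 2 ^ 2 ∣ _)
  have h4 : 4 ∣ n := by
    rcases hn with rfl | rfl
    · exact h3.mul_right _
    · exact h3.mul_right _
  have h5 : 4 ≤ n := by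
    rcases hn with rfl | rfl
    · nlinarith only [Nat.le_of_dvd (by omega) h3]
    · nlinarith only [Nat.le_of_dvd (by omega) h3]
  rcases Nat.lt_or_ge j 2 with h6 | h6
  · calc 2 ^ j ≤ 2 ^ 1 := Nat.pow_le_pow_right (by norm_num) (by omega)
      _ = 2 := by norm_num
  · exfalso
    have h7 : 4 ∣ n - 2 := (pow_dvd_pow 2 h6 : 2 ^ 2 ∣ 2 ^ j).trans hl
    omega

theorem num_order {n z m s : ℕ} (hn : Deg n z) (hm : 3 ≤ m) (hz : z + 1 = 2 ^ (m - 1))
    (h : Cfsg.Agent.OddHalf.Orders.sp m 2 = n * (n - 1) * s) : 3 ∣ s := by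
  obtain ⟨k, rfl⟩ : ∃ k, m = k + 3 := ⟨m - 3, by omega⟩
  have hz3 : 3 ≤ z := by
    have : 2 ^ 2 ≤ 2 ^ (k + 3 - 1) := Nat.pow_le_pow_right (by norm_num) (by omega)
    omega
  unfold Cfsg.Agent.OddHalf.Orders.sp at h
  rw [List.range_succ, List.range_succ, List.map_append, List.map_append, List.prod_append, List.prod_append] at h
  simp only [List.map_cons, List.map_nil, List.prod_singleton] at h
  have h3 : 3 ∣ ((List.range (k + 1)).map fun i => 2 ^ (2 * (i + 1)) - 1).prod := by
    apply List.dvd_prod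
    rw [List.mem_map]
    exact ⟨0, by simp, by norm_num⟩
  set Q := ((List.range (k + 1)).map fun i => 2 ^ (2 * (i + 1)) - 1).prod with hQ
  have e1 : 2 ^ (2 * (k + 1 + 1)) - 1 = z * (z + 2) := by
    have e : 2 ^ (2 * (k + 1 + 1)) = (z + 1) ^ 2 := by
      rw [hz, ← pow_mul]; congr 1; omega
    rw [e]
    have : (z + 1) ^ 2 = z * (z + 2) + 1 := by ring
    omega
  have e2 : 2 ^ (2 * (k + 2 + 1)) - 1 = (2 * z + 1) * (2 * z + 3) := by
    have e : 2 ^ (2 * (k + 2 + 1)) = 4 * (z + 1) ^ 2 := by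
      rw [hz, ← pow_mul, show (4 : ℕ) = 2 ^ 2 from rfl, ← pow_add]; congr 1; omega
    rw [e]
    have : 4 * (z + 1) ^ 2 = (2 * z + 1) * (2 * z + 3) + 1 := by ring
    omega
  rw [e1, e2] at h
  have key : 3 ∣ (z + 1) * s := by
    have hpos : 0 < (2 * z + 1) * (2 * z + 3) := by positivity
    rcases hn with hn | hn
    · have h1 : n - 1 = (2 * z + 1) * (z + 2) := by
        have : (z + 1) * (2 * z + 3) = (2 * z + 1) * (z + 2) + 1 := by ring
        omega
      rw [h1, hn] at h
      have h2 : (z + 1) * s = Q * (2 ^ ((k + 3) ^ 2) * z) := by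
        have hp : 0 < (2 * z + 1) * (2 * z + 3) * (z + 2) := by positivity
        apply Nat.eq_of_mul_eq_mul_left hp
        linarith only [h]
      rw [h2]
      exact h3.mul_right _
    · have h1 : n - 1 = (2 * z + 3) * z := by
        have : (z + 1) * (2 * z + 1) = (2 * z + 3) * z + 1 := by ring
        omega
      rw [h1, hn] at h
      have h2 : (z + 1) * s = Q * (2 ^ ((k + 3) ^ 2) * (z + 2)) := by
        have hp : 0 < (2 * z + 1) * (2 * z + 3) * z := by positivity
        apply Nat.eq_of_mul_eq_mul_left hp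
        linarith only [h]
      rw [h2]
      exact h3.mul_right _
  rcases Nat.prime_three.dvd_mul.1 key with h4 | h4
  · rw [hz] at h4
    have := Nat.prime_three.dvd_of_dvd_pow h4
    omega
  · exact h4

/-- **The row `Sp_{2m}(2)`.** -/
theorem not_sp (A : AS G Ω T) (h3 : IsMultiplyPretransitive G Ω 3) {F : Type} [Field F] [Fintype F] {m : ℕ}
    (hF : Fintype.card F = 2) (hm : 3 ≤ m) (e : Nonempty (T ≃* Cfsg.PSp m F))
    (hn : Nat.card Ω = 2 ^ (m - 1) * (2 ^ m + 1) ∨ Nat.card Ω = 2 ^ (m - 1) * (2 ^ m - 1)) : False := by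
  obtain ⟨e⟩ := e
  have := A.finG
  have := A.finΩ
  have := A.faithful
  obtain ⟨z, hz⟩ : ∃ z, z + 1 = 2 ^ (m - 1) := ⟨2 ^ (m - 1) - 1, by
    have := Nat.one_le_two_pow (n := m - 1)
    omega⟩
  have hz2 : 2 ^ m = 2 * (z + 1) := by
    rw [hz, mul_comm, ← pow_succ]; congr 1; omega
  have hz3 : 3 ≤ z := by
    have : 2 ^ 2 ≤ 2 ^ (m - 1) := Nat.pow_le_pow_right (by norm_num) (by omega)
    omega
  have hdeg : Deg (Nat.card Ω) z := by
    rw [hz2, ← hz] at hn
    rcases hn with hn | hn
    · left; rw [hn]; ring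
    · right; rw [hn]; congr 1
  have h2 := T_two A h3
  rw [MulAction.is_two_pretransitive_iff] at h2
  obtain ⟨a, b, hab, l, hl, hld, -, hT, -⟩ := exists_len A h3
  set C : Set T := e ⁻¹' Cl m F with hCdef
  have hC : ∀ t ∈ C, ∀ g : T, g * t * g⁻¹ ∈ C := by
    intro t ht g
    show e (g * t * g⁻¹) ∈ Cl m F
    rw [map_mul, map_mul, map_inv]
    exact Cl_conj _ ht _
  have hCn : C.ncard = (2 * z + 1) * (2 * z + 3) := by
    have h1 : C.ncard = (Cl m F).ncard := by
      have : C = e.symm '' Cl m F := by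
        ext x
        constructor
        · intro hx
          exact ⟨e x, hx, e.symm_apply_apply x⟩
        · rintro ⟨y, hy, rfl⟩
          show e (e.symm y) ∈ Cl m F
          rwa [e.apply_symm_apply]
      rw [this, Set.ncard_image_of_injective _ e.symm.injective]
    rw [h1, ncard_Cl hF (by omega)]
    have e' : 2 ^ (2 * m) = 4 * (z + 1) ^ 2 := by
      rw [mul_comm, pow_mul, hz2]; ring
    rw [e']
    have : 4 * (z + 1) ^ 2 = (2 * z + 1) * (2 * z + 3) + 1 := by ring
    omega
  obtain ⟨t₀, ht₀⟩ : C.Nonempty := by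
    rw [← Set.ncard_pos, hCn]
    positivity
  have hφ : ∀ t ∈ C, {x : Ω | t • x = x}.ncard = {x : Ω | t₀ • x = x}.ncard := by
    intro t ht
    obtain ⟨g, hg⟩ := Cl_trans hF (e t₀) (e t) ht₀ ht
    have h4 : t = e.symm g * t₀ * (e.symm g)⁻¹ := by
      apply e.injective
      rw [map_mul, map_mul, map_inv, e.apply_symm_apply, hg]
    rw [h4]
    exact ncard_fix_conj _ _
  set φ := {x : Ω | t₀ • x = x}.ncard with hφdef
  have hφn : φ < Nat.card Ω := by
    rw [← Set.ncard_univ]
    refine Set.ncard_lt_ncard ?_ Set.finite_univ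
    rw [Set.ssubset_univ_iff]
    intro h4
    -- `t₀ = 1`, hence `C = {1}`
    have h5 : t₀ = 1 := by
      apply FaithfulSMul.eq_of_smul_eq_smul (α := Ω)
      intro x
      rw [one_smul]
      have : x ∈ {x : Ω | t₀ • x = x} := by rw [h4]; trivial
      exact this
    have h6 : C ⊆ {1} := by
      intro t ht
      obtain ⟨g, hg⟩ := Cl_trans hF (e t₀) (e t) ht₀ ht
      rw [h5, map_one, mul_one, mul_inv_cancel] at hg
      exact e.injective (by rw [← hg, map_one])
    have h7 := Set.ncard_le_ncard h6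
    rw [Set.ncard_singleton, hCn] at h7
    nlinarith only [h7]
  have hcount := class_count (X := T) (Ω := Ω) (fun a b c d hab hcd => h2 hab hcd) C hC hφ hab
  rw [hCn] at hcount
  have hfix := num_fix hdeg hz3 hφn hcount
  have hdvd := dvd_mul_fix A C hC hφ hab hl
  have hl2 := num_len hdeg hm hz hld hdvd hfix
  have h8 : ∀ c : Ω, Nat.card (orbit (TT T a b) c) ≤ 2 := by
    intro c
    by_cases hc : c = a
    · rw [hc, TT_orbit_a.1]; norm_num
    by_cases hc' : c = b
    · rw [hc', TT_orbit_a.2]; norm_num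
    · rw [hl c ⟨hc, hc'⟩]; exact hl2
  have h9 : 3 ∣ Nat.card (TT T a b) := by
    refine num_order hdeg hm hz ?_
    rw [← hT, Nat.card_congr e.toEquiv, ← hF, ← Cfsg.Agent.OddHalf.Orders.card_psp (F := F) m (by omega)]
    rw [hF]
    have : Cfsg.Agent.OddHalf.Orders.spDen 2 = 1 := rfl
    rw [this, one_mul]
  exact absurd (card_pow_two A h8 Nat.prime_three h9) (by norm_num)

end Cfsg.Agent.H488.ThreeHalf
end

-- part: H488/ThreePsl
section
prune_inst 0x100075047c220000001800000200000030000000004080000140060001098040a001080002200110002010000000004811000020420000000a000000002204010000000080080000200000000000000000000000000000000000000000000000000400000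
set_option linter.all false
open scoped Cfsg.Agent.FastGrp

/-!
# `(3+1/2)`-transitive groups: the row `PSL_d(q)`, `d ≥ 3`

The stabiliser in `T` of the points `a`, `b` has an orbit of length at most `q` on the line `ab` and one of length at
least `q ^ 2` outside.
-/

set_option autoImplicit false
set_option linter.unusedSectionVars false

namespace Cfsg.Agent.H488.ThreeHalf

open MulAction Matrix Cfsg.Agent.H392.MultTrans Cfsg.Agent.H384.TwoTrans
open scoped LinearAlgebra.Projectivization

universe u v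

section vec

variable {F : Type*} [Field F] {ι : Type*} [Fintype ι] [DecidableEq ι]

theorem single_ne (i : ι) : (Pi.single i 1 : ι → F) ≠ 0 := by
  intro h
  have := congrFun h i
  rw [Pi.single_eq_same] at this
  exact one_ne_zero this

theorem smul_eq (M : SpecialLinearGroup ι F) (v : ι → F) : M • v = M.1 *ᵥ v := rfl

theorem line_ne {i j : ι} (hij : i ≠ j) (x : F) : (Pi.single i 1 + x • Pi.single j 1 : ι → F) ≠ 0 := by
  intro h
  have := congrFun h i
  rw [Pi.add_apply, Pi.single_eq_same, Pi.smul_apply, Pi.single_eq_of_ne hij, smul_zero, add_zero] at this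
  exact one_ne_zero this

theorem plane_ne {i j k : ι} (hik : i ≠ k) (hjk : j ≠ k) (x y : F) :
    (Pi.single k 1 + x • Pi.single i 1 + y • Pi.single j 1 : ι → F) ≠ 0 := by
  intro h
  have := congrFun h k
  simp [Pi.single_eq_of_ne hik.symm, Pi.single_eq_of_ne hjk.symm] at this

/-- the point `[e_i]` -/
def P (F : Type*) [Field F] (i : ι) : ℙ F (ι → F) := Projectivization.mk F (Pi.single i 1) (single_ne i)

/-- the point `[e_i + x e_j]` -/
def L {i j : ι} (hij : i ≠ j) (x : F) : ℙ F (ι → F) := Projectivization.mk F (Pi.single i 1 + x • Pi.single j 1) (line_ne hij x)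

/-- the point `[e_k + x e_i + y e_j]` -/
def Q {i j k : ι} (hik : i ≠ k) (hjk : j ≠ k) (x y : F) : ℙ F (ι → F) :=
  Projectivization.mk F (Pi.single k 1 + x • Pi.single i 1 + y • Pi.single j 1) (plane_ne hik hjk x y)

theorem fix_P {M : SpecialLinearGroup ι F} {i : ι} (h : M • P F i = P F i) :
    ∃ l : F, l ≠ 0 ∧ M.1 *ᵥ (Pi.single i 1) = l • (Pi.single i 1 : ι → F) := by
  rw [P, Projectivization.smul_mk, Projectivization.mk_eq_mk_iff'] at h
  obtain ⟨l, hl⟩ := h
  refine ⟨l, ?_, hl.symm⟩
  rintro rfl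
  rw [zero_smul] at hl
  have h1 : (Pi.single i 1 : ι → F) = 0 := by
    have h2 : M⁻¹ • (M • (Pi.single i 1 : ι → F)) = M⁻¹ • (0 : ι → F) := by rw [← hl]
    rwa [inv_smul_smul, smul_zero] at h2
  exact single_ne i h1

theorem line_smul {M : SpecialLinearGroup ι F} {i j : ι} (hij : i ≠ j) (hi : M • P F i = P F i) (hj : M • P F j = P F j)
    (x : F) : ∃ y : F, M • L hij x = L hij y := by
  obtain ⟨l, hl, h1⟩ := fix_P hi
  obtain ⟨m, hm, h2⟩ := fix_P hj
  refine ⟨l⁻¹ * (x * m), ?_⟩
  rw [L, L, Projectivization.smul_mk, Projectivization.mk_eq_mk_iff']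
  refine ⟨l, ?_⟩
  rw [smul_eq, mulVec_add, mulVec_smul, h1, h2, smul_add, smul_smul, smul_smul, ← mul_assoc, mul_inv_cancel₀ hl, one_mul]

theorem tr_single {i j k : ι} (hij : i ≠ j) (x : F) :
    (SpecialLinearGroup.transvection hij x).1 *ᵥ (Pi.single k 1) =
      if k = j then (Pi.single j 1 + x • Pi.single i 1 : ι → F) else Pi.single k 1 := by
  have h0 : (SpecialLinearGroup.transvection hij x).1 = 1 + Matrix.single i j x := rfl
  rw [h0, add_mulVec, one_mulVec]
  split_ifs with h
  · subst h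
    congr 1
    rw [mulVec_single_one]
    ext l
    rw [Matrix.col_apply, Pi.smul_apply, smul_eq_mul]
    by_cases hl : l = i
    · subst hl; simp
    · rw [Pi.single_eq_of_ne hl, mul_zero, Matrix.single_apply, if_neg (fun h => hl h.1.symm)]
  · rw [mulVec_single_one]
    convert add_zero _
    ext l
    rw [Matrix.col_apply, Matrix.single_apply, if_neg (fun h' => h h'.2.symm)]
    rfl

theorem tr_P {i j k : ι} (hij : i ≠ j) (hk : k ≠ j) (x : F) :
    SpecialLinearGroup.transvection hij x • P F k = P F k := by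
  rw [P, Projectivization.smul_mk]
  congr 1
  rw [smul_eq, tr_single, if_neg hk]

theorem tr_Q {i j k : ι} (hik : i ≠ k) (hjk : j ≠ k) (x y : F) :
    (SpecialLinearGroup.transvection hik x * SpecialLinearGroup.transvection hjk y) • P F k = Q hik hjk x y := by
  rw [P, Q, Projectivization.smul_mk]
  congr 1
  rw [mul_smul, smul_eq, smul_eq, tr_single, if_pos rfl, mulVec_add, mulVec_smul, tr_single, if_pos rfl, tr_single,
    if_neg hjk]

theorem Q_inj {i j k : ι} (hij : i ≠ j) (hik : i ≠ k) (hjk : j ≠ k) {x y x' y' : F}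
    (h : Q hik hjk x y = Q hik hjk x' y') : x = x' ∧ y = y' := by
  rw [Q, Q, Projectivization.mk_eq_mk_iff'] at h
  obtain ⟨l, hl⟩ := h
  have h1 := congrFun hl k
  have h2 := congrFun hl i
  have h3 := congrFun hl j
  simp [Pi.single_eq_of_ne hik.symm, Pi.single_eq_of_ne hjk.symm] at h1
  subst h1
  simp [Pi.single_eq_of_ne hik, Pi.single_eq_of_ne hij] at h2
  simp [Pi.single_eq_of_ne hjk, Pi.single_eq_of_ne hij.symm] at h3
  exact ⟨h2.symm, h3.symm⟩

end vec

variable {G : Type u} {Ω : Type v} [Group G] [MulAction G Ω] {T : Subgroup G}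

theorem not_psl_three (A : AS G Ω T) (h3 : IsMultiplyPretransitive G Ω 3) {F : Type*} [Field F] [Fintype F]
    {ι : Type*} [Fintype ι] [DecidableEq ι] {i j k : ι} (hij : i ≠ j) (hik : i ≠ k) (hjk : j ≠ k)
    (e : T ≃* ProjectiveSpecialLinearGroup ι F) (Φ : Ω ≃ ℙ F (ι → F))
    (hΦ : ∀ (t : T) (ω : Ω), Φ (t • ω) = e t • Φ ω) : False := by
  have := A.finG
  have := A.finΩ
  have h1 : 1 < Fintype.card F := Fintype.one_lt_card
  have hlift : ∀ (M : SpecialLinearGroup ι F) (p : ℙ F (ι → F)),
      e.symm (QuotientGroup.mk M) • Φ.symm p = Φ.symm (M • p) := by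
    intro M p
    apply Φ.injective
    rw [hΦ, e.apply_symm_apply, Φ.apply_symm_apply, Φ.apply_symm_apply]
    rfl
  have hPne : ∀ {i j : ι}, i ≠ j → P F i ≠ P F j := by
    intro i j hij h
    rw [P, P, Projectivization.mk_eq_mk_iff'] at h
    obtain ⟨l, hl⟩ := h
    have := congrFun hl i
    simp [Pi.single_eq_of_ne hij] at this
  have hLne : ∀ k : ι, k = i ∨ k = j → L hij (1 : F) ≠ P F k := by
    intro k hk h
    rw [L, P, Projectivization.mk_eq_mk_iff'] at h
    obtain ⟨l, hl⟩ := h
    have h4 := congrFun hl i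
    have h5 := congrFun hl j
    rcases hk with rfl | rfl
    · simp [Pi.single_eq_of_ne hij.symm] at h5
    · simp [Pi.single_eq_of_ne hij] at h4
  have hab : Φ.symm (P F i) ≠ Φ.symm (P F j) := fun h => hPne hij (Φ.symm.injective h)
  have hmain := card_orbit_TT A h3 hab (c := Φ.symm (L hij 1)) (d := Φ.symm (P F k))
    ⟨fun h => hLne i (Or.inl rfl) (Φ.symm.injective h), fun h => hLne j (Or.inr rfl) (Φ.symm.injective h)⟩
    ⟨fun h => hPne hik.symm (Φ.symm.injective h), fun h => hPne hjk.symm (Φ.symm.injective h)⟩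
  -- upper bound
  have hle : Nat.card (orbit (TT T (Φ.symm (P F i)) (Φ.symm (P F j))) (Φ.symm (L hij 1))) ≤ Fintype.card F := by
    have h4 : orbit (TT T (Φ.symm (P F i)) (Φ.symm (P F j))) (Φ.symm (L hij 1)) ⊆
        (fun x : F => Φ.symm (L hij x)) '' Set.univ := by
      rintro _ ⟨g, rfl⟩
      obtain ⟨g, hg⟩ := g
      rw [mem_TT] at hg
      obtain ⟨hgT, hga, hgb⟩ := hg
      obtain ⟨M, hM⟩ := QuotientGroup.mk_surjective (e ⟨g, hgT⟩)
      have hg' : (⟨g, hgT⟩ : T) = e.symm (QuotientGroup.mk M) := by rw [hM, e.symm_apply_apply]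
      have h5 : M • P F i = P F i := by
        apply Φ.symm.injective
        rw [← hlift, ← hg']
        exact hga
      have h6 : M • P F j = P F j := by
        apply Φ.symm.injective
        rw [← hlift, ← hg']
        exact hgb
      obtain ⟨y, hy⟩ := line_smul hij h5 h6 1
      refine ⟨y, trivial, ?_⟩
      show Φ.symm (L hij y) = (⟨g, hgT⟩ : T) • Φ.symm (L hij 1)
      rw [hg', hlift, hy]
    rw [Nat.card_coe_set_eq]
    calc _ ≤ _ := Set.ncard_le_ncard h4 (Set.toFinite _)
      _ ≤ (Set.univ : Set F).ncard := Set.ncard_image_le (Set.toFinite _)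
      _ = Fintype.card F := by rw [Set.ncard_univ, Nat.card_eq_fintype_card]
  -- lower bound
  have hge : Fintype.card F * Fintype.card F ≤
      Nat.card (orbit (TT T (Φ.symm (P F i)) (Φ.symm (P F j))) (Φ.symm (P F k))) := by
    have h4 : (fun x : F × F => Φ.symm (Q hik hjk x.1 x.2)) '' Set.univ ⊆
        orbit (TT T (Φ.symm (P F i)) (Φ.symm (P F j))) (Φ.symm (P F k)) := by
      rintro _ ⟨⟨x, y⟩, -, rfl⟩
      set M := SpecialLinearGroup.transvection hik x * SpecialLinearGroup.transvection hjk y with hM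
      refine ⟨⟨(e.symm (QuotientGroup.mk M) : G), ?_⟩, ?_⟩
      · rw [mem_TT]
        refine ⟨(e.symm (QuotientGroup.mk M)).2, ?_, ?_⟩
        · show e.symm (QuotientGroup.mk M) • Φ.symm (P F i) = _
          rw [hlift, hM, mul_smul, tr_P hjk hik, tr_P hik hik]
        · show e.symm (QuotientGroup.mk M) • Φ.symm (P F j) = _
          rw [hlift, hM, mul_smul, tr_P hjk hjk, tr_P hik hjk]
      · show e.symm (QuotientGroup.mk M) • Φ.symm (P F k) = Φ.symm (Q hik hjk x y)
        rw [hlift, hM, tr_Q]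
    rw [Nat.card_coe_set_eq]
    calc Fintype.card F * Fintype.card F = (Set.univ : Set (F × F)).ncard := by
          rw [Set.ncard_univ, Nat.card_eq_fintype_card, Fintype.card_prod]
      _ = _ := by
          rw [Set.ncard_image_of_injective]
          rintro ⟨x, y⟩ ⟨x', y'⟩ h
          have h' : Φ.symm (Q hik hjk x y) = Φ.symm (Q hik hjk x' y') := h
          obtain ⟨h5, h6⟩ := Q_inj hij hik hjk (Φ.symm.injective h')
          rw [h5, h6]
      _ ≤ _ := Set.ncard_le_ncard h4 (Set.toFinite _)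
  rw [hmain] at hle
  nlinarith

/-- the degree is prime to the characteristic -/
theorem char_not_dvd {F : Type*} [Field F] [Fintype F] {r d n : ℕ} [CharP F r] (hr : r.Prime) (hd : 1 ≤ d)
    (hn : n * (Fintype.card F - 1) = Fintype.card F ^ d - 1) : ¬ r ∣ n := by
  intro h
  have h1 : r ∣ Fintype.card F := by
    obtain ⟨m, hp, hm⟩ := FiniteField.card F r
    rw [hm]
    exact dvd_pow_self _ m.2.ne'
  have h2 : r ∣ Fintype.card F ^ d - 1 := by
    rw [← hn]
    exact h.mul_right _
  have h3 : r ∣ Fintype.card F ^ d := dvd_pow h1 (by omega)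
  have h4 : 1 ≤ Fintype.card F ^ d := Nat.one_le_pow _ _ Fintype.card_pos
  have h5 := (Nat.dvd_sub h3 h2)
  rw [Nat.sub_sub_self h4] at h5
  exact hr.one_lt.ne' (Nat.dvd_one.1 h5)

/-- **The row `PSL_d(q)`, `d ≥ 3`.** -/
theorem not_psl (A : AS G Ω T) (h3 : IsMultiplyPretransitive G Ω 3) {F : Type*} [Field F] [Fintype F] {d : ℕ}
    (hd : 3 ≤ d) (e : Nonempty (T ≃* ProjectiveSpecialLinearGroup (Fin d) F))
    (hn : Nat.card Ω * (Fintype.card F - 1) = Fintype.card F ^ d - 1) : False := by
  obtain ⟨e⟩ := e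
  obtain ⟨r, hch⟩ := CharP.exists F
  obtain ⟨-, hr, -⟩ := FiniteField.card F r
  have := Fact.mk hr
  obtain ⟨k, rfl⟩ : ∃ k, d = k + 1 + 1 + 1 := ⟨d - 3, by omega⟩
  obtain ⟨e', Φ, hΦ⟩ := Cfsg.Agent.H410.ASLie.psl_equiv (m := k + 1) A e (char_not_dvd (d := k + 1 + 1 + 1) hr (by omega) hn)
  refine not_psl_three A h3 (i := (0 : Fin (k + 1 + 1 + 1))) (j := 1) (k := ⟨2, by omega⟩) ?_ ?_ ?_ e' Φ hΦ
  · intro h
    have := congrArg Fin.val h
    simp at this
  · intro h
    have := congrArg Fin.val h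
    simp at this
  · intro h
    have := congrArg Fin.val h
    simp at this

end Cfsg.Agent.H488.ThreeHalf

private theorem dce_d8638b85e2e8 : _root_.True := by
  try have : _root_.True := by simp only [_root_.Cfsg.Agent.H488.ThreeHalf.Q.eq_1]
  try have : _root_.True := by simp only [_root_.Cfsg.Agent.H488.ThreeHalf.P.eq_1]
  try have : _root_.True := by simp only [_root_.Cfsg.Agent.H488.ThreeHalf.L.congr_simp]
  try have : _root_.True := by simp only [_root_.Cfsg.Agent.H488.ThreeHalf.L.eq_1]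
  exact _root_.True.intro
end
end
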