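import Cfsg.Agent.H488.ThreeSp_m3
import Cfsg.Agent.H488.M24Action
import Cfsg.Agent.H384.TwoCyc
import Cfsg.Agent.LieClassical.FieldTransfer
import Cfsg.Agent.S2126
import Cfsg.Agent.S2127
import Cfsg.Agent.S2603
import Cfsg.Agent.H57.TTOut
import Cfsg.Agent.H438.ConstFixFour
import Cfsg.Agent.H438.SzMax
import Cfsg.Agent.ChevalleyStructure.ReeCount
import Cfsg.Agent.S0243
import Cfsg.Agent.Cit.ElevenFact
import Cfsg.Agent.H660.SporPrimeIndex
import Cfsg.Agent.H392.KHalf
import Cfsg.Agent.FastGrp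
import Cfsg.Agent.Prune
set_option linter.all false

section
prune_inst 0x7ff2fefdefbd3ddfdfff7e7ffff8dffff9fcdfffffdff9cbbfe4abff1fff038e29edfbad0de0dafe0ea2c2bc10b87843fffeeeffaa6fdc7ffffdfff45ffbec1f9567bd0871d78c340fbc0ff603f077ce7f3fffffffffffffffffffffffffffbefffdffbfffff

-- part: H488/ThreeSp_mg
section

end

-- part: H488/ThreeMain
section
set_option linter.all false
open scoped Cfsg.Agent.FastGrp

-- part: H488/Line
section
/-!
# The projective line in coordinates

`Line G Ω T F` : coordinates of an action of `T` on `Ω` as `PSL₂(F)` on the projective line; `exists_line` : from an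
isomorphism of actions.
-/

set_option autoImplicit false
set_option linter.unusedSectionVars false

namespace Cfsg.Agent.H488.ThreeHalf

open MulAction Matrix Cfsg.Agent.H392.MultTrans Cfsg.Agent.H384.TwoTrans
open scoped LinearAlgebra.Projectivization

universe u v

/-- coordinates of the projective line -/
structure Line {G : Type u} (Ω : Type v) [Group G] [MulAction G Ω] (T : Subgroup G) (F : Type*) [Field F] where
  inf : Ω
  pt : F → Ω
  pt_inj : Function.Injective pt
  pt_ne : ∀ x, pt x ≠ inf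
  pt_surj : ∀ ω, ω ≠ inf → ∃ x, pt x = ω
  u : F → T
  u_inf : ∀ b, u b • inf = inf
  u_pt : ∀ b x, u b • pt x = pt (x + b)
  h : F → T
  h_inf : ∀ s ≠ 0, h s • inf = inf
  h_pt : ∀ s ≠ 0, ∀ x, h s • pt x = pt (s ^ 2 * x)
  stab : ∀ t : T, t • inf = inf → ∃ s c, s ≠ 0 ∧ ∀ x, t • pt x = pt (s ^ 2 * x + c)

variable {F : Type*} [Field F]

/-- `[x e₀ + e₁]` -/
def Pt (x : F) : ℙ F (Fin 2 → F) := Projectivization.mk F ![x, 1] (by
  intro h
  have := congrFun h 1
  simp at this)

/-- `[e₀]` -/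
def Inf (F : Type*) [Field F] : ℙ F (Fin 2 → F) := Projectivization.mk F ![1, 0] (by
  intro h
  have := congrFun h 0
  simp at this)

theorem Pt_inj {x y : F} (h : Pt x = Pt y) : x = y := by
  rw [Pt, Pt, Projectivization.mk_eq_mk_iff'] at h
  obtain ⟨l, hl⟩ := h
  have h1 := congrFun hl 1
  have h2 := congrFun hl 0
  simp at h1 h2
  rw [h1, one_mul] at h2
  exact h2.symm

theorem Pt_ne (x : F) : Pt x ≠ Inf F := by
  intro h
  rw [Pt, Inf, Projectivization.mk_eq_mk_iff'] at h
  obtain ⟨l, hl⟩ := h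
  have h1 := congrFun hl 1
  simp at h1

theorem Pt_surj (p : ℙ F (Fin 2 → F)) (hp : p ≠ Inf F) : ∃ x, Pt x = p := by
  induction p using Projectivization.ind with
  | h v hv =>
    by_cases h1 : v 1 = 0
    · exfalso
      apply hp
      rw [Inf, Projectivization.mk_eq_mk_iff']
      refine ⟨v 0, ?_⟩
      ext i
      fin_cases i
      · simp
      · simp [h1]
    · refine ⟨v 0 / v 1, ?_⟩
      rw [Pt, Projectivization.mk_eq_mk_iff']
      refine ⟨(v 1)⁻¹, ?_⟩
      ext i
      fin_cases i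
      · simp; field_simp
      · simp [h1]

theorem smul_Pt (M : _root_.Matrix.SpecialLinearGroup (Fin 2) F) (x y : F) (l : F) (h0 : M.1 0 0 * x + M.1 0 1 = l * y)
    (h1 : M.1 1 0 * x + M.1 1 1 = l) : M • Pt x = Pt y := by
  rw [Pt, Pt, Projectivization.smul_mk, Projectivization.mk_eq_mk_iff']
  refine ⟨l, ?_⟩
  rw [smul_eq]
  ext i
  fin_cases i
  · simp [Matrix.mulVec, dotProduct, Fin.sum_univ_two, h0]
  · simp [Matrix.mulVec, dotProduct, Fin.sum_univ_two, h1]

theorem smul_Inf (M : _root_.Matrix.SpecialLinearGroup (Fin 2) F) : M • Inf F = Inf F ↔ M.1 1 0 = 0 := by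
  rw [Inf, Projectivization.smul_mk, Projectivization.mk_eq_mk_iff']
  constructor
  · rintro ⟨l, hl⟩
    rw [smul_eq] at hl
    have := congrFun hl 1
    simp [Matrix.mulVec, dotProduct, Fin.sum_univ_two] at this
    exact this.symm
  · intro h
    refine ⟨M.1 0 0, ?_⟩
    rw [smul_eq]
    ext i
    fin_cases i
    · simp [Matrix.mulVec, dotProduct, Fin.sum_univ_two]
    · simp [Matrix.mulVec, dotProduct, Fin.sum_univ_two, h]

theorem stab_Inf {M : _root_.Matrix.SpecialLinearGroup (Fin 2) F} (h : M • Inf F = Inf F) :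
    ∃ s c : F, s ≠ 0 ∧ ∀ x, M • Pt x = Pt (s ^ 2 * x + c) := by
  rw [smul_Inf] at h
  have hdet := M.2
  rw [Matrix.det_fin_two, h, mul_zero, sub_zero] at hdet
  have h0 : M.1 0 0 ≠ 0 := left_ne_zero_of_mul_eq_one hdet
  refine ⟨M.1 0 0, M.1 0 0 * M.1 0 1, h0, fun x => smul_Pt M x _ (M.1 1 1) ?_ ?_⟩
  · linear_combination (-(M.1 0 0 * x) - M.1 0 1) * hdet
  · rw [h, zero_mul, zero_add]

/-- unipotent -/
def U (b : F) : _root_.Matrix.SpecialLinearGroup (Fin 2) F := ⟨!![1, b; 0, 1], by rw [Matrix.det_fin_two_of]; ring⟩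

/-- diagonal -/
def H' (s : F) (h : s ≠ 0) : _root_.Matrix.SpecialLinearGroup (Fin 2) F :=
  ⟨!![s, 0; 0, s⁻¹], by rw [Matrix.det_fin_two_of, mul_inv_cancel₀ h]; ring⟩

open Classical in
/-- diagonal -/
noncomputable def H (s : F) : _root_.Matrix.SpecialLinearGroup (Fin 2) F := if h : s = 0 then 1 else H' s h

theorem H_eq {s : F} (hs : s ≠ 0) : H s = H' s hs := by rw [H, dif_neg hs]

theorem U_Pt (b x : F) : U b • Pt x = Pt (x + b) := smul_Pt _ _ _ 1 (by simp [U]) (by simp [U])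

theorem U_Inf (b : F) : U b • Inf F = Inf F := by rw [smul_Inf]; simp [U]

theorem H_Pt {s : F} (hs : s ≠ 0) (x : F) : H s • Pt x = Pt (s ^ 2 * x) := by
  rw [H_eq hs]
  refine smul_Pt _ _ _ s⁻¹ ?_ ?_
  · simp only [H', _root_.Fin.isValue, _root_.Matrix.of_apply, _root_.Matrix.cons_val', _root_.Matrix.cons_val_zero, _root_.Matrix.cons_val_fin_one, _root_.Matrix.cons_val_one, _root_.add_zero]; field_simp
  · simp [H']

theorem H_Inf {s : F} (hs : s ≠ 0) : H s • Inf F = Inf F := by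
  rw [H_eq hs, smul_Inf]; simp [H']

variable {G : Type u} {Ω : Type v} [Group G] [MulAction G Ω] {T : Subgroup G}

/-- coordinates from an isomorphism of actions -/
theorem exists_line (e : T ≃* ProjectiveSpecialLinearGroup (Fin 2) F) (Φ : Ω ≃ ℙ F (Fin 2 → F))
    (hΦ : ∀ (t : T) (ω : Ω), Φ (t • ω) = e t • Φ ω) : Nonempty (Line Ω T F) := by
  have hlift : ∀ (M : _root_.Matrix.SpecialLinearGroup (Fin 2) F) (p : ℙ F (Fin 2 → F)),
      e.symm (QuotientGroup.mk M) • Φ.symm p = Φ.symm (M • p) := by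
    intro M p
    apply Φ.injective
    rw [hΦ, e.apply_symm_apply, Φ.apply_symm_apply, Φ.apply_symm_apply]
    rfl
  exact ⟨{
    inf := Φ.symm (Inf F)
    pt := fun x => Φ.symm (Pt x)
    pt_inj := fun x y h => Pt_inj (Φ.symm.injective h)
    pt_ne := fun x h => Pt_ne x (Φ.symm.injective h)
    pt_surj := fun ω hω => by
      obtain ⟨x, hx⟩ := Pt_surj (Φ ω) (fun h => hω (by rw [← h, Φ.symm_apply_apply]))
      exact ⟨x, by rw [hx, Φ.symm_apply_apply]⟩
    u := fun b => e.symm (QuotientGroup.mk (U b))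
    u_inf := fun b => by rw [hlift, U_Inf]
    u_pt := fun b x => by rw [hlift, U_Pt]
    h := fun s => e.symm (QuotientGroup.mk (H s))
    h_inf := fun s hs => by rw [hlift, H_Inf hs]
    h_pt := fun s hs x => by rw [hlift, H_Pt hs]
    stab := fun t ht => by
      obtain ⟨M, hM⟩ := QuotientGroup.mk_surjective (e t)
      have ht' : t = e.symm (QuotientGroup.mk M) := by rw [hM, e.symm_apply_apply]
      rw [ht', hlift] at ht
      obtain ⟨s, c, hs, h⟩ := stab_Inf (Φ.symm.injective ht)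
      exact ⟨s, c, hs, fun x => by rw [ht', hlift, h]⟩ }⟩

/-- coordinates for the row `PSL₂` -/
theorem exists_line_of (A : AS G Ω T) [Fintype F] (e : Nonempty (T ≃* ProjectiveSpecialLinearGroup (Fin 2) F))
    (hn : Nat.card Ω * (Fintype.card F - 1) = Fintype.card F ^ 2 - 1) : Nonempty (Line Ω T F) := by
  obtain ⟨e⟩ := e
  obtain ⟨r, hch⟩ := CharP.exists F
  obtain ⟨-, hr, -⟩ := FiniteField.card F r
  have := Fact.mk hr
  obtain ⟨e', Φ, hΦ⟩ := Cfsg.Agent.H410.ASLie.psl_equiv (m := 0) A e (char_not_dvd (d := 2) hr (by omega) hn)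
  exact exists_line e' Φ hΦ

end Cfsg.Agent.H488.ThreeHalf
end

-- part: H488/LineAut
section
/-!
# The stabiliser of three points of the projective line acts by field automorphisms

`Λ : Line Ω T F`, `T` normal in `G`.
-/

set_option autoImplicit false
set_option linter.unusedSectionVars false

namespace Cfsg.Agent.H488.ThreeHalf

open MulAction Matrix Cfsg.Agent.H392.MultTrans Cfsg.Agent.H384.TwoTrans

universe u v

variable {G : Type u} {Ω : Type v} [Group G] [MulAction G Ω] {T : Subgroup G} {F : Type*} [Field F]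

namespace Line

variable (Λ : Line Ω T F)

theorem ext_pt [FaithfulSMul G Ω] {s t : T} (hi : s • Λ.inf = t • Λ.inf) (h : ∀ x, s • Λ.pt x = t • Λ.pt x) :
    s = t := by
  apply Subtype.ext
  apply FaithfulSMul.eq_of_smul_eq_smul (α := Ω)
  intro ω
  by_cases hω : ω = Λ.inf
  · rw [hω]; exact hi
  · obtain ⟨x, rfl⟩ := Λ.pt_surj ω hω
    exact h x

theorem u_pow (b : F) (k : ℕ) (x : F) : (Λ.u b) ^ k • Λ.pt x = Λ.pt (x + k * b) := by
  induction k with
  | zero => simp only [_root_.pow_zero, _root_.one_smul, _root_.Nat.cast_zero, _root_.MulZeroClass.zero_mul, _root_.add_zero]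
  | succ k ih =>
    rw [pow_succ', mul_smul, ih, Λ.u_pt]
    congr 1
    push_cast
    ring

theorem pow_inf {t : T} (ht : t • Λ.inf = Λ.inf) (k : ℕ) : t ^ k • Λ.inf = Λ.inf := by
  have : t ∈ stabilizer T Λ.inf := ht
  exact (pow_mem this k : t ^ k ∈ stabilizer T Λ.inf)

theorem u_pow_char [FaithfulSMul G Ω] (b : F) {p : ℕ} (hp : (p : F) = 0) : (Λ.u b) ^ p = 1 := by
  apply Λ.ext_pt
  · rw [Λ.pow_inf (Λ.u_inf b), one_smul]
  · intro x
    rw [u_pow, hp, zero_mul, add_zero, one_smul]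

theorem exists_u [FaithfulSMul G Ω] {p : ℕ} [Fact p.Prime] [CharP F p] {t : T} (ht : t • Λ.inf = Λ.inf)
    (htp : t ^ p = 1) : ∃ c, t = Λ.u c := by
  obtain ⟨s, c, hs, h⟩ := Λ.stab t ht
  have key : s ^ 2 = 1 := by
    by_contra hne
    have h1 : (1 : F) - s ^ 2 ≠ 0 := fun h => hne (sub_eq_zero.1 h).symm
    set x₀ := c / (1 - s ^ 2) with hx₀
    have h2 : ∀ y, t • Λ.pt (x₀ + y) = Λ.pt (x₀ + s ^ 2 * y) := by
      intro y
      rw [h]
      congr 1
      have : x₀ * (1 - s ^ 2) = c := div_mul_cancel₀ _ h1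
      linear_combination (-1 : F) * this
    have h3 : ∀ (k : ℕ) (y : F), t ^ k • Λ.pt (x₀ + y) = Λ.pt (x₀ + (s ^ 2) ^ k * y) := by
      intro k
      induction k with
      | zero => intro y; simp
      | succ k ih =>
        intro y
        rw [pow_succ', mul_smul, ih, h2]
        congr 2
        ring
    have h4 := h3 p 1
    rw [htp, one_smul] at h4
    have h5 := Λ.pt_inj h4
    rw [mul_one] at h5
    have h6 : (s ^ 2) ^ p = 1 := (add_left_cancel h5).symm
    have h7 : (s ^ 2 - 1) ^ p = 0 := by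
      rw [sub_pow_char, h6, one_pow, sub_self]
    exact hne (sub_eq_zero.1 (pow_eq_zero_iff (Fact.out : p.Prime).ne_zero |>.1 h7))
  refine ⟨c, Λ.ext_pt ?_ ?_⟩
  · rw [ht, Λ.u_inf]
  · intro x
    rw [h, key, one_mul, Λ.u_pt]

/-- elements fixing `∞` normalise the root group -/
theorem conj_u [FaithfulSMul G Ω] [T.Normal] {p : ℕ} [Fact p.Prime] [CharP F p] {g : G} (hg : g • Λ.inf = Λ.inf) (b : F) :
    ∃ c, g * (Λ.u b : G) * g⁻¹ = (Λ.u c : G) := by
  have hmem : g * (Λ.u b : G) * g⁻¹ ∈ T := (inferInstance : T.Normal).conj_mem _ (Λ.u b).2 g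
  obtain ⟨c, hc⟩ := Λ.exists_u (p := p) (t := ⟨_, hmem⟩) (by
    show (g * (Λ.u b : G) * g⁻¹) • Λ.inf = Λ.inf
    have h1 : (Λ.u b : G) • Λ.inf = Λ.inf := Λ.u_inf b
    rw [mul_smul, mul_smul, inv_smul_eq_iff.2 hg.symm, h1, hg]) (by
    apply Subtype.ext
    show (g * (Λ.u b : G) * g⁻¹) ^ p = 1
    rw [conj_pow, ← Subgroup.coe_pow, Λ.u_pow_char b (CharP.cast_eq_zero F p), Subgroup.coe_one, mul_one,
      mul_inv_cancel])
  exact ⟨c, congrArg Subtype.val hc⟩

/-- the stabiliser of three points acts by maps that are additive, and multiplicative on squares -/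
theorem exists_map [FaithfulSMul G Ω] [T.Normal] {p : ℕ} [Fact p.Prime] [CharP F p] {g : G} (hg : g • Λ.inf = Λ.inf)
    (h0 : g • Λ.pt 0 = Λ.pt 0) (h1 : g • Λ.pt 1 = Λ.pt 1) :
    ∃ f : F → F, (∀ x, g • Λ.pt x = Λ.pt (f x)) ∧ (∀ x y, f (x + y) = f x + f y) ∧ f 1 = 1 ∧
      ∀ s x, f (s ^ 2 * x) = f (s ^ 2) * f x := by
  have hne : ∀ x, g • Λ.pt x ≠ Λ.inf := by
    intro x h
    rw [← hg] at h
    exact Λ.pt_ne x (smul_left_cancel g h)
  choose f hf using fun x => Λ.pt_surj _ (hne x)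
  have f0 : f 0 = 0 := Λ.pt_inj ((hf 0).trans h0)
  have f1 : f 1 = 1 := Λ.pt_inj ((hf 1).trans h1)
  have hadd : ∀ x y, f (x + y) = f x + f y := by
    intro x y
    obtain ⟨c, hc⟩ := Λ.conj_u (p := p) hg y
    have key : ∀ z, Λ.pt (f (z + y)) = Λ.pt (f z + c) := by
      intro z
      have h2 : (Λ.u y : G) • Λ.pt z = Λ.pt (z + y) := Λ.u_pt y z
      have h3 : (Λ.u c : G) • Λ.pt (f z) = Λ.pt (f z + c) := Λ.u_pt c (f z)
      rw [hf, ← h2, ← h3, ← hc, hf, mul_smul, mul_smul, inv_smul_smul]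
    have h4 := Λ.pt_inj (key 0)
    have h5 := Λ.pt_inj (key x)
    rw [zero_add, f0, zero_add] at h4
    rw [h5, h4]
  refine ⟨f, fun x => (hf x).symm, hadd, f1, ?_⟩
  intro s x
  by_cases hs : s = 0
  · subst hs
    have e0 : (0 : F) ^ 2 = 0 := by ring
    rw [e0, zero_mul, f0, zero_mul]
  have hmem : g * (Λ.h s : G) * g⁻¹ ∈ T := (inferInstance : T.Normal).conj_mem _ (Λ.h s).2 g
  have hh : (Λ.h s : G) • Λ.inf = Λ.inf := Λ.h_inf s hs
  have hh' : ∀ x, (Λ.h s : G) • Λ.pt x = Λ.pt (s ^ 2 * x) := Λ.h_pt s hs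
  obtain ⟨a, c, ha, hac⟩ := Λ.stab ⟨_, hmem⟩ (by
    show (g * (Λ.h s : G) * g⁻¹) • Λ.inf = Λ.inf
    rw [mul_smul, mul_smul, inv_smul_eq_iff.2 hg.symm, hh, hg])
  have hac' : ∀ x, (g * (Λ.h s : G) * g⁻¹) • Λ.pt x = Λ.pt (a ^ 2 * x + c) := hac
  have key : ∀ z, f (s ^ 2 * z) = a ^ 2 * f z + c := by
    intro z
    apply Λ.pt_inj
    rw [hf, ← hac' (f z), ← hh' z, hf, mul_smul, mul_smul, inv_smul_smul]
  have h2 := key 0
  rw [mul_zero, f0, mul_zero, zero_add] at h2
  have h3 := key 1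
  rw [mul_one, f1, mul_one, ← h2, add_zero] at h3
  have h4 := key x
  rw [← h2, add_zero, ← h3] at h4
  exact h4

end Line

end Cfsg.Agent.H488.ThreeHalf
end

-- part: H488/ThreePslTwo
section
/-!
# `(3+1/2)`-transitive groups: the row `PSL₂(q)`
-/

set_option autoImplicit false
set_option linter.unusedSectionVars false

namespace Cfsg.Agent.H488.ThreeHalf

open MulAction Matrix Cfsg.Agent.H392.MultTrans Cfsg.Agent.H384.TwoTrans

universe u v

/-- the third conclusion -/
def Third (G : Type u) (Ω : Type v) [Group G] [MulAction G Ω] : Prop :=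
  ∃ p : ℕ, ∃ _ : p.Prime, p ≠ 2 ∧ Nat.card Ω = 2 ^ p + 1 ∧ ∃ N : Subgroup G, N.Normal ∧ N.index = p ∧
    ∀ (K : Type) [Field K] [Fintype K], Fintype.card K = 2 ^ p → Nonempty (↥N ≃* ProjectiveSpecialLinearGroup (Fin 2) K)

section field

variable {F : Type*} [Field F] [Finite F] [Algebra (ZMod 2) F]

/-- an automorphism whose fixed points are `0, 1` generates the Galois group -/
theorem orderOf_of_fix (τ : F ≃ₐ[ZMod 2] F) (h : ∀ x, τ x = x → x = 0 ∨ x = 1) :
    orderOf τ = Module.finrank (ZMod 2) F := by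
  have h1 := IntermediateField.finrank_fixedField_eq_card (F := ZMod 2) (E := F) (Subgroup.zpowers τ)
  rw [Nat.card_zpowers] at h1
  rw [← h1]
  have h2 : IntermediateField.fixedField (F := ZMod 2) (E := F) (Subgroup.zpowers τ) = ⊥ := by
    rw [eq_bot_iff]
    intro x hx
    rw [IntermediateField.mem_fixedField_iff] at hx
    rcases h x (hx τ (Subgroup.mem_zpowers τ)) with rfl | rfl
    · exact zero_mem _
    · exact one_mem _
  rw [h2]
  exact IntermediateField.finrank_bot'

/-- the automorphisms are determined by their group: a nontrivial group whose nontrivial elements have order `f` -/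
theorem prime_of_order {C : Type*} [Group C] [Finite C] {f : ℕ} (hC : ∀ g : C, g ≠ 1 → orderOf g = f) (hne : ∃ g : C, g ≠ 1)
    (hd : Nat.card C ∣ f) : f.Prime ∧ Nat.card C = f := by
  obtain ⟨g, hg⟩ := hne
  have h1 := hC g hg
  have h2 : f ≠ 1 := by
    rintro rfl
    exact hg (orderOf_eq_one_iff.1 h1)
  have hf0 : f ≠ 0 := by
    rintro rfl
    exact (orderOf_pos g).ne' h1
  have hp := Nat.minFac_prime h2
  have h3 : orderOf (g ^ (f / f.minFac)) = f.minFac := by
    rw [orderOf_pow' g (Nat.div_pos (Nat.minFac_le (Nat.pos_of_ne_zero hf0)) hp.pos).ne', h1,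
      Nat.gcd_eq_right (Nat.div_dvd_of_dvd (Nat.minFac_dvd f)), Nat.div_div_self (Nat.minFac_dvd f) hf0]
  have h4 := hC (g ^ (f / f.minFac)) (by
    intro h
    rw [h, orderOf_one] at h3
    exact hp.one_lt.ne h3)
  have h5 : f.Prime := by
    rw [← h4, h3]
    exact hp
  refine ⟨h5, ?_⟩
  rcases (Nat.dvd_prime h5).1 hd with h6 | h6
  · exfalso
    rw [Nat.card_eq_one_iff_unique] at h6
    exact hg (h6.1.elim g 1)
  · exact h6

end field

variable {G : Type u} {Ω : Type v} [Group G] [MulAction G Ω] {T : Subgroup G} {F : Type*} [Field F]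

namespace Line

variable (Λ : Line Ω T F)

/-- the three points -/
def three : Fin 3 ↪ Ω := tri Λ.inf (Λ.pt 0) (Λ.pt 1) (Λ.pt_ne 0).symm (Λ.pt_ne 1).symm
  (fun h => zero_ne_one (Λ.pt_inj h))

theorem mem_three {g : G} (hg : g ∈ stabilizer G Λ.three) :
    g • Λ.inf = Λ.inf ∧ g • Λ.pt 0 = Λ.pt 0 ∧ g • Λ.pt 1 = Λ.pt 1 := by
  rw [mem_stab_emb] at hg
  exact ⟨hg 0, hg 1, hg 2⟩

theorem not_mem_three {b : F} (h0 : b ≠ 0) (h1 : b ≠ 1) : Λ.pt b ∉ Set.range Λ.three := by
  rintro ⟨i, hi⟩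
  fin_cases i
  · exact Λ.pt_ne b hi.symm
  · exact h0 (Λ.pt_inj hi.symm)
  · exact h1 (Λ.pt_inj hi.symm)

/-- characteristic two: the action by field automorphisms -/
theorem exists_psi [FaithfulSMul G Ω] [T.Normal] [Finite F] [CharP F 2] [Algebra (ZMod 2) F] :
    ∃ ψ : stabilizer G Λ.three →* (F ≃ₐ[ZMod 2] F), ∀ (g : stabilizer G Λ.three) (x : F), (g : G) • Λ.pt x = Λ.pt (ψ g x) := by
  have := Fact.mk Nat.prime_two
  have h := fun g : stabilizer G Λ.three => Λ.exists_map (p := 2) (Λ.mem_three g.2).1 (Λ.mem_three g.2).2.1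
    (Λ.mem_three g.2).2.2
  choose f hf hadd hone hsq using h
  have hmul : ∀ g x y, f g (x * y) = f g x * f g y := by
    intro g x y
    obtain ⟨s, hs⟩ := FiniteField.isSquare_of_char_two (ringChar.eq F 2) x
    have := hsq g s y
    rwa [pow_two, ← hs] at this
  have hzero : ∀ g, f g 0 = 0 := by
    intro g
    have := hadd g 0 0
    rw [add_zero] at this
    exact left_eq_add.1 this
  let R : stabilizer G Λ.three → (F →+* F) := fun g =>
    { toFun := f g
      map_one' := hone g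
      map_mul' := hmul g
      map_zero' := hzero g
      map_add' := hadd g }
  let Alg : stabilizer G Λ.three → (F →ₐ[ZMod 2] F) := fun g =>
    { R g with
      commutes' := fun r => by
        have := RingHom.congr_fun (RingHom.ext_zmod ((R g).comp (algebraMap (ZMod 2) F)) (algebraMap (ZMod 2) F)) r
        exact this }
  have hbij : ∀ g, Function.Bijective (Alg g) := fun g =>
    Finite.injective_iff_bijective.1 (R g).injective
  refine ⟨{ toFun := fun g => AlgEquiv.ofBijective (Alg g) (hbij g), map_one' := ?_, map_mul' := ?_ }, hf⟩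
  · ext x
    show f 1 x = x
    apply Λ.pt_inj
    rw [← hf]
    exact one_smul _ _
  · intro g k
    ext x
    show f (g * k) x = f g (f k x)
    apply Λ.pt_inj
    rw [← hf, ← hf, ← hf]
    exact mul_smul (g : G) (k : G) _

end Line

section main

variable [Finite G] [Finite Ω] [FaithfulSMul G Ω] {r : ℕ}

theorem card_of_deg {q n : ℕ} (hq : 2 ≤ q) (hn : n * (q - 1) = q ^ 2 - 1) : n = q + 1 := by
  obtain ⟨x, rfl⟩ : ∃ x, q = x + 1 := ⟨q - 1, by omega⟩
  have h1 : (x + 1) ^ 2 - 1 = (x + 1 + 1) * x := by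
    have : (x + 1) ^ 2 = (x + 1 + 1) * x + 1 := by ring
    omega
  rw [h1, Nat.add_sub_cancel] at hn
  exact Nat.eq_of_mul_eq_mul_right (by omega) hn

/-- **The row `PSL₂(q)`.** -/
theorem psl_two (A : AS G Ω T) (h3 : IsMultiplyPretransitive G Ω 3) (hr : Half G Ω r) [Fintype F]
    (hq : 4 ≤ Fintype.card F) (e : Nonempty (T ≃* ProjectiveSpecialLinearGroup (Fin 2) F))
    (hn : Nat.card Ω * (Fintype.card F - 1) = Fintype.card F ^ 2 - 1) : Concl G Ω ∨ Third G Ω := by
  have := A.normal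
  obtain ⟨Λ⟩ := exists_line_of A e hn
  have hΩ := card_of_deg (by omega) hn
  obtain ⟨p, hch⟩ := CharP.exists F
  obtain ⟨f, hp, hf⟩ := FiniteField.card F p
  have := Fact.mk hp
  by_cases hp2 : p = 2
  swap
  · -- odd characteristic: `2` is fixed
    left
    have h20 : (2 : F) ≠ 0 := by
      intro h
      have h1 : (p : ℕ) ∣ 2 := (CharP.cast_eq_zero_iff F p 2).1 (by exact_mod_cast h)
      exact hp2 ((Nat.prime_dvd_prime_iff_eq hp Nat.prime_two).1 h1)
    have h21 : (2 : F) ≠ 1 := by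
      intro h
      have : (1 : F) = 0 := by linear_combination h
      exact one_ne_zero this
    refine concl_of (by omega) h3 hr (Or.inl ?_)
    rw [← hr Λ.three (Λ.pt 2) (Λ.not_mem_three h20 h21)]
    have h4 : orbit (stabilizer G Λ.three) (Λ.pt 2) = {Λ.pt 2} := by
      ext ω
      constructor
      · rintro ⟨g, rfl⟩
        obtain ⟨h5, h6, h7⟩ := Λ.mem_three g.2
        obtain ⟨φ, hφ, hadd, hone, -⟩ := Λ.exists_map (p := p) h5 h6 h7
        show (g : G) • Λ.pt 2 = Λ.pt 2
        rw [hφ]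
        congr 1
        have : (2 : F) = 1 + 1 := by norm_num
        rw [this, hadd, hone]
      · rintro rfl
        exact mem_orbit_self _
    rw [h4]
    simp
  subst hp2
  let _ : Algebra (ZMod 2) F := ZMod.algebra F 2
  set C := stabilizer G Λ.three with hC
  obtain ⟨ψ, hψ⟩ : ∃ ψ : C →* (F ≃ₐ[ZMod 2] F), ∀ (g : C) (x : F), (g : G) • Λ.pt x = Λ.pt (ψ g x) := Λ.exists_psi
  have hfr : Module.finrank (ZMod 2) F = f := by
    have h5 : Fintype.card F = 2 ^ Module.finrank (ZMod 2) F := by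
      have h6 := Module.card_eq_pow_finrank (K := ZMod 2) (V := F)
      rwa [ZMod.card] at h6
    rw [hf] at h5
    exact (Nat.pow_right_injective (le_refl 2) h5).symm
  have hinj : Function.Injective ψ := by
    rw [injective_iff_map_eq_one]
    intro g hg
    apply Subtype.ext
    apply FaithfulSMul.eq_of_smul_eq_smul (α := Ω)
    intro ω
    rw [Subgroup.coe_one, one_smul]
    by_cases hω : ω = Λ.inf
    · rw [hω]; exact (Λ.mem_three g.2).1
    · obtain ⟨x, rfl⟩ := Λ.pt_surj ω hω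
      rw [hψ, hg]
      rfl
  have hcyc : IsCyclic C := isCyclic_of_injective ψ hinj
  -- stabilisers of further points are all equal
  have hstab : ∀ b : F, b ≠ 0 → b ≠ 1 → r * Nat.card (stabilizer C (Λ.pt b)) = Nat.card C := by
    intro b h0 h1
    rw [← hr Λ.three (Λ.pt b) (Λ.not_mem_three h0 h1)]
    have h5 := (stabilizer C (Λ.pt b)).index_mul_card
    rw [MulAction.index_stabilizer, ← Nat.card_coe_set_eq] at h5
    exact h5
  have hsemi : ∀ b : F, b ≠ 0 → b ≠ 1 → stabilizer C (Λ.pt b) = ⊥ := by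
    intro b h0 h1
    rw [eq_bot_iff]
    intro g hg
    rw [Subgroup.mem_bot]
    apply hinj
    rw [map_one]
    ext x
    show ψ g x = x
    by_cases hx0 : x = 0
    · rw [hx0, map_zero]
    by_cases hx1 : x = 1
    · rw [hx1, map_one]
    have h2 : stabilizer C (Λ.pt b) = stabilizer C (Λ.pt x) := by
      apply Cfsg.Agent.H384.TwoCyc.eq_of_card
      have h4 := hstab b h0 h1
      have h5 := hstab x hx0 hx1
      have hr0 : 0 < r := by
        rcases Nat.eq_zero_or_pos r with h6 | h6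
        · rw [h6, zero_mul] at h4
          exact absurd h4.symm Nat.card_pos.ne'
        · exact h6
      exact Nat.eq_of_mul_eq_mul_left hr0 (h4.trans h5.symm)
    rw [h2] at hg
    have h4 : (g : G) • Λ.pt x = Λ.pt x := hg
    rw [hψ] at h4
    exact Λ.pt_inj h4
  obtain ⟨b, hb0, hb1⟩ : ∃ b : F, b ≠ 0 ∧ b ≠ 1 := by
    classical
    by_contra hcon
    push Not at hcon
    have h5 : (Finset.univ : Finset F) ⊆ {0, 1} := by
      intro x _
      rw [Finset.mem_insert, Finset.mem_singleton]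
      by_cases hx : x = 0
      · exact Or.inl hx
      · exact Or.inr (hcon x hx)
    have h6 := Finset.card_le_card h5
    rw [Finset.card_univ] at h6
    have h7 : ({0, 1} : Finset F).card ≤ 2 := Finset.card_le_two
    omega
  have hrC : r = Nat.card C := by
    have h5 := hstab b hb0 hb1
    rwa [hsemi b hb0 hb1, Subgroup.card_bot, mul_one] at h5
  by_cases hne : ∃ g : C, g ≠ 1
  swap
  · left
    refine concl_of (by omega) h3 hr (Or.inl ?_)
    rw [hrC, Nat.card_eq_one_iff_unique]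
    push Not at hne
    exact ⟨⟨fun x y => (hne x).trans (hne y).symm⟩, ⟨1⟩⟩
  have hord : ∀ g : C, g ≠ 1 → orderOf g = f := by
    intro g hg
    rw [← orderOf_injective ψ hinj g, ← hfr]
    apply orderOf_of_fix
    intro x hx
    by_contra hcon
    push Not at hcon
    apply hg
    have h5 : g ∈ stabilizer C (Λ.pt x) := by
      show (g : G) • Λ.pt x = Λ.pt x
      rw [hψ, hx]
    rwa [hsemi x hcon.1 hcon.2, Subgroup.mem_bot] at h5
  have hdvd : Nat.card C ∣ f := by
    rw [← hfr, ← IsGalois.card_aut_eq_finrank]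
    exact Subgroup.card_dvd_of_injective ψ hinj
  obtain ⟨hfp, hCf⟩ := prime_of_order hord hne hdvd
  by_cases hf2 : (f : ℕ) = 2
  · left
    refine concl_of (by omega) h3 hr (Or.inr ?_)
    rw [hrC, hCf, hΩ, hf, hf2]
    norm_num
  right
  refine ⟨f, hfp, hf2, by rw [hΩ, hf], T, A.normal, ?_, ?_⟩
  · obtain ⟨e⟩ := e
    have hT := Cfsg.Agent.ClassicalGeometry.PSL2Basic.card_PSL2_even F (by
      rw [hf]
      exact Nat.even_pow.2 ⟨even_two, f.2.ne'⟩)
    rw [← Nat.card_congr e.toEquiv] at hT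
    have hG := card_eq_descFactorial h3 Λ.three
    rw [← hC, hCf, hΩ, Nat.descFactorial_succ, Nat.descFactorial_succ, Nat.descFactorial_one] at hG
    have h5 := T.index_mul_card
    rw [hT, hG] at h5
    have h6 : 0 < Fintype.card F * (Fintype.card F ^ 2 - 1) := by
      rw [← hT]; exact Nat.card_pos
    apply Nat.eq_of_mul_eq_mul_right h6
    rw [h5]
    obtain ⟨x, hx⟩ : ∃ x, Fintype.card F = x + 1 := ⟨Fintype.card F - 1, by omega⟩
    rw [hx]
    have h7 : (x + 1) ^ 2 - 1 = x * (x + 2) := by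
      have : (x + 1) ^ 2 = x * (x + 2) + 1 := by ring
      omega
    have h8 : x + 1 + 1 - 1 = x + 1 := by omega
    have h9 : x + 1 + 1 - 2 = x := by omega
    rw [h7, h8, h9]
    ring
  · intro K _ _ hK
    obtain ⟨e⟩ := e
    exact ⟨e.trans (Cfsg.Agent.LieClassical.FieldTransfer.pslCongr (FiniteField.ringEquivOfCardEq (K := F) (K' := K) (by rw [hf, hK])))⟩

end main

end Cfsg.Agent.H488.ThreeHalf
end

-- part: H488/ThreeAffine
section
/-!
# `(3+1/2)`-transitive groups: the affine case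
-/

set_option autoImplicit false
set_option linter.unusedSectionVars false

namespace Cfsg.Agent.H488.ThreeHalf

open MulAction Cfsg.Agent.H392.MultTrans Cfsg.Agent.H384.TwoTrans

universe u v

variable {G : Type u} {Ω : Type v} [Group G] [MulAction G Ω]

theorem affine [Finite G] [Finite Ω] [FaithfulSMul G Ω] {N : Subgroup G} (hN : N.Normal) {p : ℕ} (hp : p.Prime)
    (hexp : ∀ n ∈ N, n ^ p = 1) (htr : ∀ x y : Ω, ∃ n ∈ N, n • x = y)
    (hsr : ∀ x : Ω, ∀ n ∈ N, n • x = x → n = 1) (h4 : 4 ≤ Nat.card Ω) (h3 : IsMultiplyPretransitive G Ω 3)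
    {r : ℕ} (hr : Half G Ω r) : Concl G Ω := by
  classical
  have hcomm : ∀ (o : Ω) (g n : G), n ∈ N → g • o = o → g • n • o = n • o → g * n * g⁻¹ = n := by
    intro o g n hn hgo hgn
    have h1 : (n⁻¹ * (g * n * g⁻¹)) • o = o := by
      rw [mul_smul, mul_smul, mul_smul, inv_smul_eq_iff.2 hgo.symm, hgn, inv_smul_smul]
    have h2 := hsr o _ (mul_mem (inv_mem hn) (hN.conj_mem n hn g)) h1
    exact (inv_mul_eq_one.1 h2).symm
  have hfix : ∀ (o : Ω) (g m : G), g • o = o → g * m * g⁻¹ = m → g • m • o = m • o := by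
    intro o g m hgo hm
    rw [smul_smul]
    have : g * m = m * g := mul_inv_eq_iff_eq_mul.1 hm
    rw [this, mul_smul, hgo]
  obtain ⟨s, b, hb⟩ := exists_tri (Ω := Ω) h4
  obtain ⟨n₁, hn₁, e₁⟩ := htr (s 0) (s 1)
  obtain ⟨n₂, hn₂, e₂⟩ := htr (s 0) (s 2)
  have hs01 : s 0 ≠ s 1 := fun h => by simpa using s.injective h
  have hs02 : s 0 ≠ s 2 := fun h => by simpa using s.injective h
  have hs12 : s 1 ≠ s 2 := fun h => by simpa using s.injective h
  have hb0 : b ≠ s 0 := fun h => hb ⟨0, h.symm⟩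
  have hb1 : b ≠ s 1 := fun h => hb ⟨1, h.symm⟩
  have hinj : ∀ (m m' : G), m ∈ N → m' ∈ N → m • s 0 = m' • s 0 → m = m' := by
    intro m m' hm hm' h
    have h1 : (m'⁻¹ * m) • s 0 = s 0 := by rw [mul_smul, h, inv_smul_smul]
    exact (inv_mul_eq_one.1 (hsr _ _ (mul_mem (inv_mem hm') hm) h1)).symm
  by_cases hp2 : p = 2
  swap
  · exfalso
    -- `n₁⁻¹` is different from `1` and `n₁`
    have h1 : n₁⁻¹ • s 0 ≠ s 0 := by
      intro h
      have h5 := hsr _ _ (inv_mem hn₁) h
      rw [inv_eq_one] at h5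
      rw [h5, one_smul] at e₁
      exact hs01 e₁
    have h2 : n₁⁻¹ • s 0 ≠ s 1 := by
      intro h
      rw [← e₁] at h
      have h5 := hinj _ _ (inv_mem hn₁) hn₁ h
      have h6 : n₁ ^ 2 = 1 := by
        rw [pow_two]
        nth_rewrite 1 [← h5]
        exact inv_mul_cancel _
      have h7 : n₁ = 1 := by
        have h8 := orderOf_dvd_of_pow_eq_one h6
        have h9 := orderOf_dvd_of_pow_eq_one (hexp n₁ hn₁)
        have h10 : Nat.Coprime 2 p := (Nat.coprime_primes Nat.prime_two hp).2 (Ne.symm hp2)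
        exact orderOf_eq_one_iff.1 (Nat.eq_one_of_dvd_coprimes h10 h8 h9)
      rw [h7, one_smul] at e₁
      exact hs01 e₁
    -- a fourth point
    obtain ⟨d, hd0, hd1, hd2⟩ : ∃ d : Ω, d ≠ s 0 ∧ d ≠ s 1 ∧ d ≠ n₁⁻¹ • s 0 := by
      by_contra hcon
      push Not at hcon
      have h5 : (Set.univ : Set Ω) ⊆ {s 0, s 1, n₁⁻¹ • s 0} := by
        intro x _
        by_cases h6 : x = s 0
        · exact Or.inl h6
        by_cases h7 : x = s 1
        · exact Or.inr (Or.inl h7)
        · exact Or.inr (Or.inr (hcon x h6 h7))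
      have h6 := Set.ncard_le_ncard h5 (Set.toFinite _)
      rw [Set.ncard_univ] at h6
      have h7 := Set.ncard_insert_le (s 0) {s 1, n₁⁻¹ • s 0}
      have h8 := Set.ncard_insert_le (s 1) {n₁⁻¹ • s 0}
      rw [Set.ncard_singleton] at h8
      omega
    obtain ⟨g, g1, g2, g3⟩ := three_pts h3 hs01 h1.symm h2.symm hs01 hd0.symm hd1.symm
    have h5 := hcomm (s 0) g n₁ hn₁ g1 (by rw [e₁, g2])
    have h6 := hfix (s 0) g n₁⁻¹ g1 (by
      have : g * n₁⁻¹ * g⁻¹ = (g * n₁ * g⁻¹)⁻¹ := by group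
      rw [this, h5])
    rw [g3] at h6
    exact hd2 h6
  · subst hp2
    have hne1 : n₁ ≠ 1 := by
      rintro rfl
      rw [one_smul] at e₁
      exact hs01 e₁
    have hne2 : n₂ ≠ 1 := by
      rintro rfl
      rw [one_smul] at e₂
      exact hs02 e₂
    refine concl_of h4 h3 hr (Or.inl ?_)
    have hmem : (n₁ * n₂) • s 0 ∉ Set.range s := by
      rintro ⟨i, hi⟩
      fin_cases i
      · have h1 : n₁ * n₂ = 1 := hsr _ _ (mul_mem hn₁ hn₂) hi.symm
        have h2 : n₁ * n₁ = 1 := by rw [← pow_two]; exact hexp n₁ hn₁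
        have h5 : n₁ = n₂ := mul_left_cancel (h2.trans h1.symm)
        apply hs12
        rw [← e₁, ← e₂, h5]
      · have hi' : s 1 = (n₁ * n₂) • s 0 := hi
        rw [← e₁] at hi'
        have h1 := hinj _ _ hn₁ (mul_mem hn₁ hn₂) hi'
        exact hne2 (left_eq_mul.1 h1)
      · have hi' : s 2 = (n₁ * n₂) • s 0 := hi
        rw [← e₂] at hi'
        have h1 := hinj _ _ hn₂ (mul_mem hn₁ hn₂) hi'
        exact hne1 (right_eq_mul.1 h1)
    rw [← hr s _ hmem]
    have h5 : orbit (stabilizer G s) ((n₁ * n₂) • s 0) = {(n₁ * n₂) • s 0} := by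
      ext ω
      constructor
      · rintro ⟨g, rfl⟩
        have hg := (mem_stab_emb s g.1).1 g.2
        have h6 := hcomm (s 0) g n₁ hn₁ (hg 0) (by rw [e₁, hg 1])
        have h7 := hcomm (s 0) g n₂ hn₂ (hg 0) (by rw [e₂, hg 2])
        show (g : G) • (n₁ * n₂) • s 0 = (n₁ * n₂) • s 0
        apply hfix _ _ _ (hg 0)
        have h8 : (g : G) * (n₁ * n₂) * (g : G)⁻¹ = ((g : G) * n₁ * (g : G)⁻¹) * ((g : G) * n₂ * (g : G)⁻¹) := by group
        rw [h8, h6, h7]
      · rintro rfl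
        exact mem_orbit_self _
    rw [h5]
    simp only [_root_.Fin.isValue, _root_.Nat.card_eq_fintype_card, _root_.Fintype.card_unique]

end Cfsg.Agent.H488.ThreeHalf
end

-- part: H488/ThreeLie
section
/-!
# `(3+1/2)`-transitive groups: the rank one rows `PSU₃`, `Sz`, `²G₂`

They are not 3-transitive: `n (n - 1) (n - 2)` does not divide `|T| |Out T|`.
-/

set_option autoImplicit false
set_option linter.unusedSectionVars false

namespace Cfsg.Agent.H488.ThreeHalf

open MulAction Cfsg.Agent.H392.MultTrans Cfsg.Agent.H384.TwoTrans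

universe u v

variable {G : Type u} {Ω : Type v} [Group G] [MulAction G Ω] {T : Subgroup G}

theorem dvd_out (A : AS G Ω T) (h3 : IsMultiplyPretransitive G Ω 3) {X : Type*} [Group X] (e : T ≃* X) :
    Nat.card Ω * (Nat.card Ω - 1) * (Nat.card Ω - 2) ∣ Nat.card T * Nat.card (Cfsg.Out X) := by
  have := A.finG
  have := A.finΩ
  have := A.faithful
  refine Dvd.dvd.trans ?_ (Cfsg.Agent.H57.TTOut.AS.card_dvd A e)
  obtain ⟨s, b, hb⟩ := exists_tri (Ω := Ω) (by have := A.five_le; omega)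
  rw [card_eq_descFactorial h3 s, Nat.descFactorial_succ, Nat.descFactorial_succ, Nat.descFactorial_one]
  exact ⟨Nat.card (stabilizer G s), by ring⟩

theorem lt_two_pow (n : ℕ) : n < 2 ^ n := Nat.lt_two_pow_self

/-- `n = x (x + 1)`-type cancellation -/
theorem dvd_cancel {P : ℕ} (a b c d : ℕ) (hP : 0 < P)
    (h1 : a = P * b) (h2 : c = P * d) (h : a ∣ c) : b ∣ d := by
  rw [h1, h2] at h
  exact Nat.dvd_of_mul_dvd_mul_left hP h

theorem not_sz (A : AS G Ω T) (h3 : IsMultiplyPretransitive G Ω 3) {F : Type} [Field F] [Fintype F] {m : ℕ}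
    (hm : 1 ≤ m) (hF : Fintype.card F = 2 ^ (2 * m + 1)) (e : Nonempty (T ≃* ↥(Cfsg.Lie.Sz F (2 ^ (m + 1)))))
    (hn : Nat.card Ω = Fintype.card F ^ 2 + 1) : False := by
  obtain ⟨e⟩ := e
  have h1 := dvd_out A h3 e
  rw [Cfsg.Agent.S2126.result hm hF, Nat.card_congr e.toEquiv, Cfsg.Agent.H438.SzMax.card_sz hF, hn, hF] at h1
  have h2 := lt_two_pow (2 * m + 1)
  generalize 2 ^ (2 * m + 1) = q at h1 h2
  obtain ⟨x, rfl⟩ : ∃ x, q = x + 1 := ⟨q - 1, by omega⟩
  have h4 : x + 2 ∣ 2 * m + 1 := by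
    refine dvd_cancel (P := ((x + 1) ^ 2 + 1) * (x + 1) ^ 2 * x) _ _ _ _ ?_ ?_ ?_ h1
    · have : 0 < x := by omega
      positivity
    · have h5 : (x + 1) ^ 2 + 1 - 2 = x * (x + 2) := by
        have : (x + 1) ^ 2 + 1 = x * (x + 2) + 2 := by ring
        omega
      rw [h5, Nat.add_sub_cancel]
      ring
    · rw [Nat.add_sub_cancel]
      ring
  have h5 := Nat.le_of_dvd (by omega) h4
  omega

theorem not_ree (A : AS G Ω T) (h3 : IsMultiplyPretransitive G Ω 3) {K : Type} [Field K] [Fintype K] {m : ℕ}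
    (hm : 1 ≤ m) (hK : Fintype.card K = 3 ^ (2 * m + 1)) (e : Nonempty (T ≃* ↥(Cfsg.Lie.twistedG2 K (3 ^ m))))
    (hn : Nat.card Ω = Fintype.card K ^ 3 + 1) : False := by
  obtain ⟨e⟩ := e
  have h1 := dvd_out A h3 e
  rw [Cfsg.Agent.S2127.result hm hK, Nat.card_congr e.toEquiv,
    Cfsg.Agent.ChevalleyStructure.ReeCount.card_twistedG2 hK, hn, hK] at h1
  have h2 : 2 * m + 1 < 3 ^ (2 * m + 1) := Nat.lt_pow_self (by norm_num)
  generalize 3 ^ (2 * m + 1) = q at h1 h2
  obtain ⟨x, rfl⟩ : ∃ x, q = x + 1 := ⟨q - 1, by omega⟩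
  have h4 : (x + 1) ^ 2 + (x + 1) + 1 ∣ 2 * m + 1 := by
    refine dvd_cancel (P := ((x + 1) ^ 3 + 1) * (x + 1) ^ 3 * x) _ _ _ _ ?_ ?_ ?_ h1
    · have : 0 < x := by omega
      positivity
    · have h5 : (x + 1) ^ 3 + 1 - 2 = x * ((x + 1) ^ 2 + (x + 1) + 1) := by
        have : (x + 1) ^ 3 + 1 = x * ((x + 1) ^ 2 + (x + 1) + 1) + 2 := by ring
        omega
      rw [h5, Nat.add_sub_cancel]
      ring
    · rw [Nat.add_sub_cancel]
      ring
  have h5 := Nat.le_of_dvd (by omega) h4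
  have h6 : (x + 1) ^ 2 = x * x + 2 * x + 1 := by ring
  omega

theorem not_psu (A : AS G Ω T) (h3 : IsMultiplyPretransitive G Ω 3) {F : Type} [Field F] [Fintype F] {q : ℕ}
    (hq : 3 ≤ q) (hF : Fintype.card F = q ^ 2) (e : Nonempty (T ≃* Cfsg.PSU 3 F q))
    (hn : Nat.card Ω = q ^ 3 + 1) : False := by
  obtain ⟨e⟩ := e
  have h1 := dvd_out A h3 e
  obtain ⟨p, hch⟩ := CharP.exists F
  obtain ⟨k, hp, hk⟩ := FiniteField.card F p
  rw [hF] at hk
  obtain ⟨f, -, hqp⟩ := (Nat.dvd_prime_pow hp).1 (by rw [← hk]; exact Dvd.intro_left q (by ring) : q ∣ p ^ (k : ℕ))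
  have hf : 1 ≤ f := by
    rcases Nat.eq_zero_or_pos f with h | h
    · rw [h, pow_zero] at hqp; omega
    · exact h
  have := Fact.mk hp
  obtain ⟨φ, hφ, -, hk2⟩ := Cfsg.Agent.S2603.result (K := F) (n := 3) hf hqp hF (by norm_num) (by omega)
  have hout : Nat.card (Cfsg.Out (Cfsg.PSU 3 F q)) = Nat.gcd 3 (q + 1) * (2 * f) := by
    have h5 := Subgroup.card_mul_index φ.ker
    rw [Subgroup.index_ker, MonoidHom.range_eq_top.2 hφ, Subgroup.card_top, hk2,
      Nat.card_congr Multiplicative.toAdd, Nat.card_zmod] at h5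
    exact h5.symm
  have hT := Cfsg.Agent.H438.ConstFix.psu_card hF (by omega)
  rw [hout, Nat.card_congr e.toEquiv, hn] at h1
  have h6 : Nat.card (Cfsg.PSU 3 F q) * (Nat.gcd 3 (q + 1) * (2 * f)) =
      (q ^ 3 * ((q ^ 3 + 1) * (q ^ 2 - 1))) * (2 * f) := by
    rw [← hT]; ring
  rw [h6] at h1
  obtain ⟨x, rfl⟩ : ∃ x, q = x + 1 := ⟨q - 1, by omega⟩
  have h4 : (x + 1) ^ 2 + (x + 1) + 1 ∣ (x + 2) * (2 * f) := by
    refine dvd_cancel (P := ((x + 1) ^ 3 + 1) * (x + 1) ^ 3 * x) _ _ _ _ ?_ ?_ ?_ h1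
    · have : 0 < x := by omega
      (clear * - this; positivity)
    · have h5 : (x + 1) ^ 3 + 1 - 2 = x * ((x + 1) ^ 2 + (x + 1) + 1) := by
        have : (x + 1) ^ 3 + 1 = x * ((x + 1) ^ 2 + (x + 1) + 1) + 2 := by ring
        omega
      rw [h5, Nat.add_sub_cancel]
      ring
    · have h5 : (x + 1) ^ 2 - 1 = x * (x + 2) := by
        have : (x + 1) ^ 2 = x * (x + 2) + 1 := by ring
        omega
      rw [h5]
      ring
  have h7 : Nat.Coprime ((x + 1) ^ 2 + (x + 1) + 1) (x + 2) := by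
    have h8 : (x + 1) ^ 2 + (x + 1) + 1 = 1 + (x + 2) * (x + 1) := by ring
    rw [h8]
    simp
  have h9 := h7.dvd_of_dvd_mul_left h4
  have h10 := Nat.le_of_dvd (by omega) h9
  have h11 : f < x + 1 := by
    rw [hqp]
    exact Nat.lt_pow_self hp.one_lt
  have h12 : (x + 1) ^ 2 = x * x + 2 * x + 1 := by ring
  linarith only [h10, h11, _root_.mul_self_nonneg (↑x : ℤ)]

end Cfsg.Agent.H488.ThreeHalf
end

-- part: H488/ThreeTwelve
section
/-!
# `(3+1/2)`-transitive groups: `M₁₂` of degree 12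
-/

set_option autoImplicit false
set_option linter.unusedSectionVars false

namespace Cfsg.Agent.H488.ThreeHalf

open MulAction Cfsg.Agent.H392.MultTrans Cfsg.Agent.H384.TwoTrans

universe u v

variable {G : Type u} {Ω : Type v} [Group G] [MulAction G Ω] [Finite G] [Finite Ω]

/-- the kernel on an invariant set -/
theorem exists_ker (N : Subgroup G) (O : Set Ω) (hO : ∀ g ∈ N, ∀ x ∈ O, g • x ∈ O) :
    ∃ K : Subgroup G, K ≤ N ∧ (∀ g ∈ K, ∀ x ∈ O, g • x = x) ∧ Nat.card N ≤ O.ncard.factorial * Nat.card K := by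
  classical
  let S : SubMulAction N Ω :=
    { carrier := O
      smul_mem' := fun g b hb => hO g g.2 b hb }
  let φ : N →* Equiv.Perm S := toPermHom N S
  refine ⟨φ.ker.map N.subtype, ?_, ?_, ?_⟩
  · rintro _ ⟨y, -, rfl⟩
    exact y.2
  · rintro _ ⟨y, hy, rfl⟩ x hx
    have h1 : φ y = 1 := hy
    have h2 := congrArg (fun σ : Equiv.Perm S => ((σ ⟨x, hx⟩ : S) : Ω)) h1
    exact h2
  · have h1 : Nat.card (φ.ker.map N.subtype : Subgroup G) = Nat.card φ.ker :=
      Nat.card_congr (Subgroup.equivMapOfInjective _ _ N.subtype_injective).symm.toEquiv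
    rw [h1]
    have h2 : Nat.card N = Nat.card φ.range * Nat.card φ.ker := by
      rw [← φ.ker.index_mul_card, Subgroup.index_ker]
    rw [h2]
    apply Nat.mul_le_mul_right
    have h3 : Nat.card φ.range ≤ Nat.card (Equiv.Perm S) := Nat.card_le_card_of_injective _ Subtype.val_injective
    rw [Nat.card_perm] at h3
    have h4 : Nat.card S = O.ncard := by rw [← Nat.card_coe_set_eq]; rfl
    rwa [h4] at h3

/-- a primitive group with an element moving at most three points -/
theorem concl_of_support [FaithfulSMul G Ω] (hp : IsPreprimitive G Ω) (h5 : 5 ≤ Nat.card Ω) {g : G} (hg : g ≠ 1)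
    (hs : ({x : Ω | g • x ≠ x} : Set Ω).ncard ≤ 3) : Concl G Ω := by
  classical
  have : Fintype Ω := Fintype.ofFinite Ω
  have hnt : Nontrivial Ω := Finite.one_lt_card_iff_nontrivial.1 (by omega)
  have hprim : IsPreprimitive (toPermHom G Ω).range Ω := by
    let f : Ω →ₑ[(toPermHom G Ω).rangeRestrict] Ω := { toFun := id, map_smul' := fun _ _ => rfl }
    exact IsPreprimitive.of_surjective (f := f) Function.surjective_id
  set σ : Equiv.Perm Ω := toPermHom G Ω g with hσ
  have hσ1 : σ ≠ 1 := by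
    intro h
    apply hg
    apply FaithfulSMul.eq_of_smul_eq_smul (α := Ω)
    intro b
    rw [one_smul]
    exact congrArg (fun τ : Equiv.Perm Ω => τ b) h
  have hcard : σ.support.card ≤ 3 := by
    have h1 : ({x : Ω | g • x ≠ x} : Set Ω) = σ.support := by
      ext x
      simp only [Set.mem_ofPred_eq, Finset.mem_coe, Equiv.Perm.mem_support]
      rfl
    rwa [h1, Set.ncard_coe_finset] at hs
  have h2 := Equiv.Perm.two_le_card_support_of_ne_one hσ1
  have hmem : σ ∈ (toPermHom G Ω).range := ⟨g, rfl⟩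
  have hle : alternatingGroup Ω ≤ (toPermHom G Ω).range := by
    rcases (show σ.support.card = 2 ∨ σ.support.card = 3 by omega) with h | h
    · rw [Equiv.Perm.subgroup_eq_top_of_isPreprimitive_of_isSwap_mem hprim σ
        (Equiv.Perm.card_support_eq_two.1 h) hmem]
      exact le_top
    · exact Equiv.Perm.alternatingGroup_le_of_isPreprimitive_of_isThreeCycle_mem hprim
        (card_support_eq_three_iff.1 h) hmem
  exact concl_of_alt h5 hle

/-- **`M₁₂` of degree 12.** -/
theorem m12 [FaithfulSMul G Ω] {T : Subgroup G} (A : AS G Ω T) (hT : Nat.card T = 95040)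
    (h3 : IsMultiplyPretransitive G Ω 3) (hn : Nat.card Ω = 12) {r : ℕ} (hr : Half G Ω r) : Concl G Ω := by
  obtain ⟨s, b, hb, hrn, hrd, -⟩ := exists_stab (Ω := Ω) (by omega) h3 hr
  have h1 := card_eq_descFactorial h3 s
  have h0 : Nat.descFactorial 12 3 = 1320 := by simp [Nat.descFactorial]
  rw [hn, h0] at h1
  have h2 : 95040 ∣ Nat.card G := hT ▸ Subgroup.card_subgroup_dvd_card T
  have h72 : 72 ≤ Nat.card (stabilizer G s) := by
    have h4 : 0 < Nat.card (stabilizer G s) := Nat.card_pos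
    rw [h1] at h2
    obtain ⟨k, hk⟩ := h2
    omega
  rw [hn] at hrn
  by_cases hr39 : r = 1 ∨ r = Nat.card Ω - 3
  · exact concl_of (by omega) h3 hr hr39
  have hr3 : r = 3 := by
    have h10 : r ∣ 3 ^ 2 := hrn
    obtain ⟨k, hk, rfl⟩ := (Nat.dvd_prime_pow Nat.prime_three).1 h10
    rw [hn] at hr39
    interval_cases k <;> simp_all only [_root_.Set.mem_range, _root_.not_exists, _root_.MulAction.mem_stabilizer_iff, _root_.Nat.descFactorial_succ, _root_.Nat.reduceSub, _root_.Nat.add_one_sub_one, _root_.tsub_zero, _root_.Nat.descFactorial_zero, _root_.mul_one, _root_.Nat.reduceMul, _root_.zero_le, _root_.pow_zero, _root_.isUnit_iff_eq_one, _root_.IsUnit.dvd, _root_.OfNat.one_ne_ofNat, _root_.or_false, _root_.not_true_eq_false, _root_.Nat.one_le_ofNat, _root_.pow_one, _root_.Nat.reduceDvd, _root_.OfNat.ofNat_ne_one, _root_.Nat.reduceEqDiff, _root_.or_self, _root_.not_false_eq_true, _root_.Nat.reducePow, _root_.Std.le_refl, _root_.dvd_refl, _root_.or_true]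
  subst hr3
  -- the first two orbits
  set N := stabilizer G s with hN
  obtain ⟨c, hc, hcb⟩ : ∃ c, c ∉ Set.range s ∧ c ∉ orbit N b := by
    by_contra hcon
    push Not at hcon
    have h10 : ((Set.range s)ᶜ : Set Ω) ⊆ orbit N b := fun x hx => hcon x hx
    have h11 := Set.ncard_le_ncard h10 (Set.toFinite _)
    rw [← Nat.card_coe_set_eq, ← Nat.card_coe_set_eq, card_compl_range, hn, hr s b hb] at h11
    omega
  have hinv : ∀ x : Ω, ∀ g ∈ N, ∀ y ∈ orbit N x, g • y ∈ orbit N x := by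
    rintro x g hg _ ⟨k, rfl⟩
    exact ⟨⟨g, hg⟩ * k, mul_smul (⟨g, hg⟩ : N) k x⟩
  obtain ⟨K, hK, hKb, hKc⟩ := exists_ker N (orbit N b) (hinv b)
  obtain ⟨L, hL, hLb, hLc⟩ := exists_ker K (orbit N c) (fun g hg => hinv c g (hK hg))
  rw [← Nat.card_coe_set_eq, hr s b hb] at hKc
  rw [← Nat.card_coe_set_eq, hr s c hc] at hLc
  have h6 : Nat.factorial 3 = 6 := rfl
  rw [h6] at hKc hLc
  have hL2 : 1 < Nat.card L := by omega
  obtain ⟨g, hg1⟩ : ∃ g : L, g ≠ 1 := by
    have := (Finite.one_lt_card_iff_nontrivial (α := L)).1 hL2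
    exact exists_ne 1
  refine concl_of_support A.isPreprimitive (by omega) (g := (g : G)) (fun h => hg1 (Subtype.ext h)) ?_
  -- the fixed points
  have hsub : ({x : Ω | (g : G) • x ≠ x} : Set Ω) ⊆ ((Set.range s ∪ orbit N b) ∪ orbit N c : Set Ω)ᶜ := by
    rintro x hx ((⟨i, rfl⟩ | h) | h)
    · exact hx ((mem_stab_emb s _).1 (hK (hL g.2)) i)
    · exact hx (hKb _ (hL g.2) x h)
    · exact hx (hLb _ g.2 x h)
  have h7 := Set.ncard_le_ncard hsub (Set.toFinite _)
  rw [Set.ncard_compl] at h7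
  have h8 : (Set.range s ∪ orbit N b ∪ orbit N c : Set Ω).ncard = 9 := by
    rw [Set.ncard_union_eq, Set.ncard_union_eq, ← Nat.card_coe_set_eq (orbit N b), hr s b hb,
      ← Nat.card_coe_set_eq (orbit N c), hr s c hc]
    · have h6 : (Set.range s).ncard = 3 := by
        rw [← Set.image_univ, Set.ncard_image_of_injective _ s.injective, Set.ncard_univ]
        simp
      omega
    · rw [Set.disjoint_left]
      intro x hx hx'
      exact orbit_subset_compl s hb hx' hx
    · rw [Set.disjoint_left]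
      rintro x (hx | hx) hx'
      · exact orbit_subset_compl s hc hx' hx
      · apply hcb
        rw [← orbit_eq_iff.2 hx, orbit_eq_iff.2 hx']
        exact mem_orbit_self c
  rw [h8, hn] at h7
  exact h7

end Cfsg.Agent.H488.ThreeHalf
end

-- part: H488/ThreeMain
section
/-!
# `(3+1/2)`-transitive groups: the main theorem, from the list of the 2-transitive groups
-/

set_option autoImplicit false
set_option linter.unusedSectionVars false

namespace Cfsg.Agent.H488.ThreeHalf

open MulAction Cfsg.Agent.H392.MultTrans Cfsg.Agent.H384.TwoTrans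

universe u v

variable {G : Type u} {Ω : Type v} [Group G] [MulAction G Ω] {T : Subgroup G} {r : ℕ}

/-- if `T` is 4-transitive, so is `G` -/
theorem concl_of_four (h : IsMultiplyPretransitive T Ω 4) : Concl G Ω := by
  left
  refine ⟨fun s t => ?_⟩
  obtain ⟨g, hg⟩ := exists_smul_eq T s t
  refine ⟨(g : G), ?_⟩
  ext i
  have := DFunLike.congr_fun hg i
  exact this

theorem card_psl_four {F : Type*} [Field F] [Fintype F] (hF : Fintype.card F = 2) :
    Nat.card (Matrix.ProjectiveSpecialLinearGroup (Fin 4) F) = 20160 := by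
  have h := Cfsg.Agent.S0243.result hF 4 (by norm_num)
  norm_num only [Fin.prod_univ_succ, _root_.one_mul, _root_.Fin.coe_ofNat_eq_mod, _root_.pow_zero, _root_.Nat.add_one_sub_one, _root_.Fin.val_succ, _root_.zero_add, _root_.pow_one, _root_.Finset.univ_unique, _root_.Fin.default_eq_zero, _root_.Fin.val_eq_zero, _root_.Finset.prod_const, _root_.Finset.card_singleton] at h
  exact h

theorem card_psl_two {F : Type*} [Field F] [Fintype F] {q : ℕ} (hF : Fintype.card F = q) :
    Nat.gcd 2 (q - 1) * ((q - 1) * Nat.card (Matrix.ProjectiveSpecialLinearGroup (Fin 2) F)) =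
      (q ^ 2 - 1) * (q ^ 2 - q) := by
  have h := Cfsg.Agent.S0243.result hF 2 (by norm_num)
  rw [h]
  simp only [Fin.prod_univ_two, _root_.Fin.isValue, _root_.Fin.coe_ofNat_eq_mod, _root_.Nat.zero_mod, _root_.pow_zero, _root_.Nat.mod_succ, _root_.pow_one]

theorem card_alt {n : ℕ} (hn : 2 ≤ n) : Nat.card (alternatingGroup (Fin n)) * 2 = n.factorial := by
  have : Nontrivial (Fin n) := Fin.nontrivial_iff_two_le.2 hn
  rw [Nat.card_eq_fintype_card, mul_comm, two_mul_card_alternatingGroup, Fintype.card_perm, Fintype.card_fin]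

/-- `M₁₁`: `T = G` -/
theorem isM11 (A : AS G Ω T) (h : Cfsg.Spor.IsoM11 T) : Cfsg.IsM11 G := by
  have hT : T = ⊤ := eq_top_of_inner A (fun α => by
    by_contra hcon
    push Not at hcon
    exact Cfsg.Agent.Cit.ElevenFact.outer h hcon)
  have e : T ≃* G := (MulEquiv.subgroupCongr hT).trans Subgroup.topEquiv
  have := A.simple
  have hs : IsSimpleGroup G := e.symm.isSimpleGroup
  exact ⟨hs, by rw [← Nat.card_congr e.toEquiv, Cfsg.Agent.NotCT.Orders.m11 h]⟩

/-- **The almost simple case.** -/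
theorem almost (A : AS G Ω T) (hK : Known2 T (Nat.card Ω)) (h3 : IsMultiplyPretransitive G Ω 3)
    (hr : Half G Ω r) : Concl G Ω ∨ Third G Ω := by
  have := A.finG
  have := A.finΩ
  have := A.faithful
  have := A.finT
  have := A.simple
  have := A.transitive
  generalize hn : Nat.card Ω = n at hK
  cases hK with
  | alt n hn5 e =>
    left
    obtain ⟨e⟩ := e
    refine alt (G := G) (T := T) (by omega) ?_
    rw [Nat.card_congr e.toEquiv, card_alt (by omega), hn]
  | psl F d n hd hd2 e hn' =>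
    subst hn
    rcases Nat.lt_or_ge 2 d with h | h
    · exact (not_psl A h3 h e hn').elim
    · obtain rfl : d = 2 := by omega
      exact psl_two A h3 hr (hd2 rfl) e hn'
  | sp F m n hF hm e hn' => exact (not_sp A h3 hF hm e (by rwa [hn])).elim
  | psu F q n hq hF e hn' => exact (not_psu A h3 hq hF e (by rwa [hn])).elim
  | sz F m n hm hF e hn' => exact (not_sz A h3 hm hF e (by rwa [hn])).elim
  | ree K m n hm hK e hn' => exact (not_ree A h3 hm hK e (by rwa [hn])).elim
  | psl2_8 F hF e =>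
    obtain ⟨e⟩ := e
    refine (psl2_8 A h3 hn ?_).elim
    rw [Nat.card_congr e.toEquiv]
    have h := card_psl_two hF
    norm_num at h
    omega
  | psl2_9 F hF e =>
    left
    obtain ⟨e⟩ := e
    refine alt (G := G) (T := T) (by omega) ?_
    rw [Nat.card_congr e.toEquiv, hn]
    have h := card_psl_two hF
    norm_num only [Nat.factorial] at h ⊢
    omega
  | psl2_11 F hF e =>
    obtain ⟨e⟩ := e
    refine (psl2_11 A h3 hn ?_).elim
    rw [Nat.card_congr e.toEquiv]
    have h := card_psl_two hF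
    norm_num at h
    omega
  | psl4_2 F hF e =>
    left
    obtain ⟨e⟩ := e
    refine alt (G := G) (T := T) (by omega) ?_
    rw [Nat.card_congr e.toEquiv, hn, card_psl_four hF]
    norm_num [Nat.factorial]
  | a7 e =>
    obtain ⟨e⟩ := e
    refine (a7 A h3 hn ?_).elim
    rw [Nat.card_congr e.toEquiv]
    have h := card_alt (n := 7) (by norm_num)
    have h7 : (7 : ℕ).factorial = 5040 := by decide
    rw [h7] at h
    omega
  | m11 h => exact Or.inl (m11_11 (isM11 A h) h3 hn hr)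
  | m11' h => exact Or.inl (m11_12 (isM11 A h) h3 hn hr)
  | m12 h => exact Or.inl (m12 A (Cfsg.Agent.NotCT.Orders.m12 h) h3 hn hr)
  | m22 h => exact Or.inl (m22 hn h3 hr)
  | m23 h => exact Or.inl (concl_of_four (Cfsg.Agent.H660.SporPrimeIndex.m23_four h hn))
  | m24 h =>
    refine Or.inl (concl_of_four (T := T) ?_)
    have := M24Action.five (T := T) (Ω := Ω) A.simple (Cfsg.Agent.NotCT.Orders.m24 h) hn
    exact isMultiplyPretransitive_of_le (n := 5) (by norm_num) (by omega)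
  | hs h => exact (hs A h3 hn (Cfsg.Agent.NotCT.Orders.hs h)).elim
  | co3 h => exact (co3 A h3 hn (Cfsg.Agent.NotCT.Orders.co3 h)).elim

/-- **`(3+1/2)`-transitive groups**, from the classification of the 2-transitive groups. -/
theorem main [Finite G] [FaithfulSMul G Ω] [Finite Ω] (hn : 4 ≤ Nat.card Ω) (h3 : IsMultiplyPretransitive G Ω 3)
    (hhalf : ∀ s : Fin 3 ↪ Ω, ∀ b c : Ω, b ∉ Set.range s → c ∉ Set.range s →
      Nat.card (orbit (stabilizer G s) b) = Nat.card (orbit (stabilizer G s) c))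
    (hK : ∀ T : Subgroup G, AS G Ω T → Known2 T (Nat.card Ω)) : Concl G Ω ∨ Third G Ω := by
  obtain ⟨s₀, b₀, hb₀⟩ := exists_tri (Ω := Ω) hn
  have hr : Half G Ω (Nat.card (orbit (stabilizer G s₀) b₀)) := by
    intro s b hb
    obtain ⟨g, hg⟩ := exists_map h3 s s₀
    have hgb : g • b ∉ Set.range s₀ := by
      rintro ⟨i, hi⟩
      apply hb
      refine ⟨i, ?_⟩
      have := hg i
      rw [hi] at this
      exact smul_left_cancel g this
    rw [Cfsg.Agent.H392.KHalf.orbit_card_conj s s₀ g hg b]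
    exact hhalf s₀ _ _ hgb hb₀
  have h2 : IsMultiplyPretransitive G Ω 2 := isMultiplyPretransitive_of_le (n := 3) (by norm_num) (by omega)
  rcases reduction h2 (by omega) with ⟨N, hN, -, -, ⟨p, hp, hexp⟩, htr, hsr⟩ | ⟨T, A⟩
  · exact Or.inl (affine hN hp hexp htr hsr hn h3 hr)
  · exact almost A (hK T A) h3 hr

end Cfsg.Agent.H488.ThreeHalf
end

private theorem dce_53344f8af037 : _root_.True := by
  try have : _root_.True := by simp only [_root_.Cfsg.Agent.H488.ThreeHalf.U.eq_1]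
  try have : _root_.True := by simp only [_root_.Cfsg.Agent.H488.ThreeHalf.H'.eq_1]
  try have : _root_.True := by simp only [_root_.Cfsg.Agent.H488.ThreeHalf.Inf.eq_1]
  try have : _root_.True := by simp only [_root_.Cfsg.Agent.H488.ThreeHalf.H.eq_1]
  try have : _root_.True := by simp only [_root_.Cfsg.Agent.H488.ThreeHalf.Pt.eq_1]
  exact _root_.True.intro
end
end
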